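import Cfsg.Agent.Lib.BlocksChars5.Restrict
import Cfsg.Agent.Lib.Induced.Character
import Cfsg.Agent.Lib.Elem70.Degrees.TwoDegrees
import Cfsg.Agent.S4456

/-!
# Groups with at most three character degrees: generalities
-/

set_option autoImplicit false

namespace Cfsg.Agent.Lib.BC77.ThreeDegrees

open scoped ComplexConjugate
open Cfsg.Agent.Lib.Characters.Basic Cfsg.Agent.Lib.Induced.Basic
open Cfsg.Agent.Lib
open Cfsg.Agent.Lib.BlocksChars5.Basic (apply_one charKer mem_charKer charKer_normal degree_pos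
  inflate inflate_apply le_charKer_inflate exists_deflate)

universe u

variable {G : Type u} [Group G]

/-- The degree. -/
noncomputable abbrev dg (χ : Cfsg.IrrCharacter G) : ℕ := Cfsg.charDegree (χ : G → ℂ)

/-- All degrees are among `1`, `m`, `n`. -/
def Deg2 (G : Type u) [Group G] (m n : ℕ) : Prop :=
  ∀ χ : Cfsg.IrrCharacter G, dg χ = 1 ∨ dg χ = m ∨ dg χ = n

theorem Deg2.symm {m n : ℕ} (h : Deg2 G m n) : Deg2 G n m := fun χ => by
  rcases h χ with h' | h' | h'
  · exact Or.inl h'
  · exact Or.inr (Or.inr h')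
  · exact Or.inr (Or.inl h')

theorem dg_inflate [Finite G] (N : Subgroup G) [N.Normal] (χ : Cfsg.IrrCharacter (G ⧸ N)) :
    dg (inflate N χ) = dg χ := by
  show ⌊((inflate N χ : G → ℂ) 1).re⌋₊ = _
  rw [inflate_apply, QuotientGroup.mk_one]
  rfl

theorem Deg2.quot [Finite G] {m n : ℕ} (h : Deg2 G m n) (N : Subgroup G) [N.Normal] : Deg2 (G ⧸ N) m n :=
  fun χ => dg_inflate N χ ▸ h (inflate N χ)

variable [Finite G]

theorem apply_one_eq_one {χ : Cfsg.IrrCharacter G} (h : dg χ = 1) : (χ : G → ℂ) 1 = 1 := by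
  rw [apply_one χ, show Cfsg.charDegree (χ : G → ℂ) = 1 from h, Nat.cast_one]

theorem commutator_le_charKer {χ : Cfsg.IrrCharacter G} (h : dg χ = 1) :
    commutator G ≤ charKer χ := fun x hx => by
  rw [mem_charKer, apply_one_eq_one h]
  exact Elem70.Degrees.TwoDegrees.linear_apply_commutator (isCharacter_irr χ) (apply_one_eq_one h) hx

theorem comm_of_all_linear (h : ∀ χ : Cfsg.IrrCharacter G, dg χ = 1) (a b : G) : a * b = b * a :=
  S4493.comm_of_linear (fun χ => apply_one_eq_one (h χ)) a b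

/-- With one nonlinear degree the group is metabelian. -/
theorem metabelian {a : ℕ} (h : ∀ χ : Cfsg.IrrCharacter G, dg χ = 1 ∨ dg χ = a) :
    derivedSeries G 2 = ⊥ := by
  rw [derivedSeries_succ, derivedSeries_one, Subgroup.commutator_eq_bot_iff_le_centralizer]
  intro x hx
  rw [Subgroup.mem_centralizer_iff]
  exact fun y hy => Elem70.Degrees.TwoDegrees.commutator_comm h y hy x hx

/-- Constituents of a restriction. -/
theorem ne_charKer_of_constituent [Fintype G] (N : Subgroup G) [Fintype N]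
    {χ : Cfsg.IrrCharacter G} {θ : Cfsg.IrrCharacter N}
    (h : Cfsg.classInner (fun a : N => (χ : G → ℂ) a) θ ≠ 0) (hθ : θ ≠ oneChar N) :
    ¬ N ≤ charKer χ := by
  intro hle
  apply h
  have e : (fun a : N => (χ : G → ℂ) a) = (χ : G → ℂ) 1 • (oneChar N : N → ℂ) := by
    funext a
    rw [Pi.smul_apply, oneChar_apply, smul_eq_mul, mul_one]
    exact hle a.2
  rw [e, classInner_smul_left, classInner_irr_of_ne (Ne.symm hθ), mul_zero]

/-- Every irreducible character of a normal subgroup lies below one of the group. -/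
theorem exists_over [Fintype G] (N : Subgroup G) [N.Normal] [Fintype N]
    (θ : Cfsg.IrrCharacter N) : ∃ (χ : Cfsg.IrrCharacter G) (e : ℕ),
      Cfsg.classInner (fun a : N => (χ : G → ℂ) a) θ ≠ 0 ∧ dg χ = e * dg θ ∧ e ∣ N.index := by
  have hc : Cfsg.IsCharacter G (Cfsg.indFun N (θ : N → ℂ)) :=
    Induced.Character.isCharacter_indFun N (isCharacter_irr θ)
  have hne : Cfsg.indFun N (θ : N → ℂ) ≠ 0 := fun h => by
    have h1 := congrFun h 1
    rw [indFun_one, Pi.zero_apply] at h1
    exact mul_ne_zero (Nat.cast_ne_zero.mpr Subgroup.index_ne_zero_of_finite)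
      (apply_one_ne_zero θ) h1
  obtain ⟨χ, hχ⟩ := Clifford.Basic.exists_constituent hc hne
  rw [frobenius_reciprocity N _ (isClassFunction_irr χ)] at hχ
  have h := Clifford.Basic.classInner_ne_zero_symm hχ
  obtain ⟨e, he, hei⟩ := BlocksChars5.Restrict.ratio_dvd_nat N χ θ h
  exact ⟨χ, e, h, he, hei⟩

/-- A prime dividing all nonlinear degrees gives a normal complement. -/
theorem complement {p : ℕ} (hp : p.Prime)
    (h : ∀ χ : Cfsg.IrrCharacter G, dg χ ≠ 1 → p ∣ dg χ) :
    ∃ K : Subgroup G, K.Normal ∧ ¬ p ∣ Nat.card K ∧ ∃ k : ℕ, K.index = p ^ k := by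
  obtain ⟨K, h1, h2, h3⟩ := S4456.result p hp h
  exact ⟨K, h1, fun hd => hp.ne_one (Nat.eq_one_of_dvd_coprimes h2 hd dvd_rfl), h3⟩

/-- The degrees of a normal subgroup of order prime to `s` and `s`-power index. -/
theorem Deg2.complement {m n s k : ℕ} (hs : s.Prime) (h : Deg2 G m n) (K : Subgroup G) [K.Normal]
    (hK : ¬ s ∣ Nat.card K) (hidx : K.index = s ^ k) :
    Deg2 K (m / s ^ m.factorization s) (n / s ^ n.factorization s) := by
  classical
  have := Fintype.ofFinite G
  have := Fintype.ofFinite K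
  intro θ
  obtain ⟨χ, e, -, he, hei⟩ := exists_over K θ
  obtain ⟨i, -, rfl⟩ := (Nat.dvd_prime_pow hs).mp (hidx ▸ hei)
  have hθ : ¬ s ∣ dg θ := fun hd => hK (hd.trans (BlocksChars5.Basic.degree_dvd_card θ))
  have key : dg θ = dg χ / s ^ (dg χ).factorization s := by
    have hne : dg θ ≠ 0 := (degree_pos θ).ne'
    have hfac : (dg χ).factorization s = i := by
      rw [he, Nat.factorization_mul (pow_ne_zero _ hs.ne_zero) hne, Finsupp.add_apply,
        hs.factorization_pow, Finsupp.single_eq_same,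
        Nat.factorization_eq_zero_of_not_dvd hθ, add_zero]
    rw [hfac, he, Nat.mul_div_cancel_left _ (pow_pos hs.pos _)]
  rcases h χ with h' | h' | h'
  · left
    rw [key, h']
    simp
  · right; left
    rw [key, h']
  · right; right
    rw [key, h']

/-- The degrees of a normal subgroup of prime power order and prime-to-`p` index. -/
theorem dg_normal_sylow {p : ℕ} (hp : p.Prime) (F : Subgroup G) [F.Normal] (hF : IsPGroup p F)
    (hidx : ¬ p ∣ F.index) (θ : Cfsg.IrrCharacter F) :
    ∃ χ : Cfsg.IrrCharacter G, dg θ = p ^ (dg χ).factorization p := by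
  classical
  haveI := Fact.mk hp
  have := Fintype.ofFinite G
  have := Fintype.ofFinite F
  obtain ⟨χ, e, -, he, hei⟩ := exists_over F θ
  obtain ⟨r, hr⟩ := IsPGroup.iff_card.mp hF
  obtain ⟨i, -, hi⟩ := (Nat.dvd_prime_pow hp).mp (hr ▸ BlocksChars5.Basic.degree_dvd_card θ)
  refine ⟨χ, ?_⟩
  change dg θ = p ^ i at hi
  have he0 : e ≠ 0 := by rintro rfl; exact hidx (by rw [Nat.eq_zero_of_zero_dvd hei]; exact dvd_zero p)
  have hpe : ¬ p ∣ e := fun hd => hidx (hd.trans hei)
  rw [he, hi, Nat.factorization_mul he0 (pow_ne_zero _ hp.ne_zero), Finsupp.add_apply,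
    hp.factorization_pow, Finsupp.single_eq_same, Nat.factorization_eq_zero_of_not_dvd hpe,
    zero_add]

end Cfsg.Agent.Lib.BC77.ThreeDegrees
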