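import Cfsg.Agent.Lib.BC77.ThreeDegrees.Fitting

/-!
# Isaacs' theorem: at most three character degrees give derived length at most three
-/

set_option autoImplicit false

namespace Cfsg.Agent.Lib.BC77.ThreeDegrees

open scoped ComplexConjugate commutatorElement
open Cfsg.Agent.Lib.Characters.Basic Cfsg.Agent.Lib.Induced.Basic
open Cfsg.Agent.Lib
open Cfsg.Agent.Lib.BlocksChars5.Basic (apply_one charKer mem_charKer charKer_normal degree_pos
  inflate inflate_apply le_charKer_inflate exists_deflate)

universe u

variable {G : Type u} [Group G] [Finite G]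

/-- The inductive step in Taketa's argument. -/
theorem taketa_step [Fintype G] (D : Subgroup G) [hD : D.Normal] (χ : Cfsg.IrrCharacter G)
    (H : Subgroup G) (lam : H →* ℂˣ) (hχ : (χ : G → ℂ) = Cfsg.indFun H (fun h => (lam h : ℂ)))
    (hsmall : ∀ ψ : Cfsg.IrrCharacter G, dg ψ < dg χ → D ≤ charKer ψ) :
    ⁅D, D⁆ ≤ charKer χ := by
  classical
  haveI := Fintype.ofFinite H
  haveI := Fintype.ofFinite (Cfsg.IrrCharacter G)
  have hidx : dg χ = H.index := by
    have h := congrFun hχ 1
    rw [indFun_one, map_one, Units.val_one, mul_one, apply_one χ] at h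
    exact_mod_cast h
  have hDH : D ≤ H := by
    intro x hx
    apply Elem70.Degrees.TwoDegrees.mem_of_indFun_one_eq H
    set π : G → ℂ := Cfsg.indFun H (fun _ => (1 : ℂ))
    have hπ : Cfsg.IsCharacter G π := Induced.Character.isCharacter_indFun H isCharacter_one
    choose c hc using fun a : Cfsg.IrrCharacter G => exists_classInner_nat hπ (isCharacter_irr a)
    have hg : ∀ g, π g = ∑ a : Cfsg.IrrCharacter G, (c a : ℂ) * (a : G → ℂ) g := by
      intro g
      have h := congrFun (Characters.Complete.classFunction_eq_sum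
        (isClassFunction_of_isCharacter hπ)) g
      simp only [Finset.sum_apply, Pi.smul_apply, smul_eq_mul, hc] at h
      exact h
    have h1 : c (oneChar G) = 1 := by
      have h2 : Cfsg.classInner π (oneChar G : G → ℂ) = 1 := by
        rw [frobenius_reciprocity H _ (isClassFunction_irr _)]
        exact classInner_self_irr (oneChar H)
      rw [hc] at h2
      exact_mod_cast h2
    have hsum : H.index = ∑ a : Cfsg.IrrCharacter G, c a * dg a := by
      have h2 := hg 1
      rw [show π 1 = (H.index : ℂ) * 1 from indFun_one H _, mul_one] at h2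
      simp only [apply_one] at h2
      exact_mod_cast h2
    have hterm : ∀ a, (c a : ℂ) * (a : G → ℂ) x = (c a : ℂ) * (a : G → ℂ) 1 := by
      intro a
      by_cases h0 : c a = 0
      · simp [h0]
      by_cases ha : a = oneChar G
      · subst ha
        rw [oneChar_apply, oneChar_apply]
      congr 1
      refine hsmall a ?_ hx
      have hle : c a * dg a + c (oneChar G) * dg (oneChar G) ≤ H.index := by
        rw [hsum, ← Finset.sum_pair (f := fun a => c a * dg a) ha]
        exact Finset.sum_le_sum_of_subset (Finset.subset_univ _)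
      rw [h1, one_mul] at hle
      have h3 : 1 * dg a ≤ c a * dg a := Nat.mul_le_mul_right _ (Nat.one_le_iff_ne_zero.mpr h0)
      have h4 : 0 < dg (oneChar G) := degree_pos _
      omega
    rw [hg, hg]
    exact Finset.sum_congr rfl fun a _ => hterm a
  intro g hg
  rw [mem_charKer, hχ, indFun_one, map_one, Units.val_one, mul_one]
  have hker : ⁅D, D⁆ ≤ (MonoidHom.ker lam).map H.subtype := by
    rw [Subgroup.commutator_le]
    intro a ha b hb
    refine ⟨⁅(⟨a, hDH ha⟩ : H), ⟨b, hDH hb⟩⁆, ?_, map_commutatorElement _ _ _⟩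
    rw [SetLike.mem_coe, MonoidHom.mem_ker, map_commutatorElement,
      commutatorElement_eq_one_iff_mul_comm]
    exact mul_comm _ _
  have hval : ∀ a : G, Cfsg.extendByZero H (fun h => (lam h : ℂ)) (a⁻¹ * g * a) = 1 := by
    intro a
    have hmem : a⁻¹ * g * a ∈ ⁅D, D⁆ := by
      simpa using (inferInstance : (⁅D, D⁆ : Subgroup G).Normal).conj_mem g hg a⁻¹
    obtain ⟨z, hz, hzy⟩ := hker hmem
    rw [← hzy]
    show Cfsg.extendByZero H (fun h => (lam h : ℂ)) (z : G) = 1
    rw [extendByZero_of_mem H _ z.2]
    show ((lam z : ℂˣ) : ℂ) = 1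
    rw [MonoidHom.mem_ker.mp hz, Units.val_one]
  simp only [Cfsg.indFun, hval, Finset.sum_const, Finset.card_univ, nsmul_eq_mul, mul_one,
    Fintype.card_eq_nat_card]
  rw [← H.card_mul_index, Nat.cast_mul, ← mul_assoc,
    inv_mul_cancel₀ (subgroup_card_ne_zero H), one_mul]

/-- Nilpotent groups. -/
theorem nilpotent_case [Group.IsNilpotent G] {m n : ℕ} (h : Deg2 G m n) :
    derivedSeries G 3 = ⊥ := by
  classical
  have := Fintype.ofFinite G
  wlog hmn : m ≤ n generalizing m n
  · exact this h.symm (le_of_not_ge hmn)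
  have hone : ∀ χ : Cfsg.IrrCharacter G, dg χ = 1 → derivedSeries G 1 ≤ charKer χ := fun χ hχ => by
    rw [derivedSeries_one]
    exact commutator_le_charKer hχ
  have hstep : ∀ (k : ℕ) (χ : Cfsg.IrrCharacter G),
      (∀ ψ : Cfsg.IrrCharacter G, dg ψ < dg χ → derivedSeries G k ≤ charKer ψ) →
      derivedSeries G (k + 1) ≤ charKer χ := by
    intro k χ hk
    obtain ⟨H, lam, hχ⟩ := Induced.Monomial.exists_linear_of_nilpotent χ.2
    rw [derivedSeries_succ]
    haveI := derivedSeries_normal G k
    exact taketa_step (derivedSeries G k) χ H lam hχ hk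
  have hm : ∀ χ : Cfsg.IrrCharacter G, dg χ ≤ m → derivedSeries G 2 ≤ charKer χ := by
    intro χ hχ
    refine hstep 1 χ fun ψ hψ => hone ψ ?_
    rcases h ψ with h' | h' | h'
    · exact h'
    · omega
    · omega
  have hall : ∀ χ : Cfsg.IrrCharacter G, derivedSeries G 3 ≤ charKer χ := by
    intro χ
    refine hstep 2 χ fun ψ hψ => ?_
    rcases h ψ with h' | h' | h'
    · exact (derivedSeries_antitone G (by norm_num : 1 ≤ 2)).trans (hone ψ h')
    · exact hm ψ h'.le
    · refine hm ψ ?_
      rcases h χ with h'' | h'' | h'' <;> have := degree_pos ψ <;> omega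
  exact eq_bot_iff.mpr fun x hx => Subgroup.mem_bot.mpr
    (Characters.Complete.eq_one_of_forall_irr fun χ => hall χ hx)

/-- If `p` divides all nonlinear degrees and the Fitting subgroup is a `p`-group, so is `G`. -/
theorem pGroup_of_all_dvd [Group.IsSolvable G] {p : ℕ} [hp : Fact p.Prime]
    (hF : IsPGroup p (Cfsg.fittingSubgroup G))
    (h : ∀ χ : Cfsg.IrrCharacter G, dg χ ≠ 1 → p ∣ dg χ) : IsPGroup p G := by
  obtain ⟨K, hK, hpK, k, hk⟩ := complement hp.out h
  have hbot : K = ⊥ := by
    by_contra hne
    haveI : Nontrivial K := (Subgroup.nontrivial_iff_ne_bot K).mpr hne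
    apply Cores.fittingSubgroup_ne_bot (G := K)
    have h1 := Cores.map_subtype_fittingSubgroup K
    have h2 : K ⊓ Cfsg.fittingSubgroup G = ⊥ := by
      obtain ⟨r, hr⟩ := IsPGroup.iff_card.mp hF
      refine Subgroup.inf_eq_bot_of_coprime ?_
      rw [hr]
      exact (Nat.Coprime.pow_left r (hp.out.coprime_iff_not_dvd.mpr hpK)).symm
    rw [h2, Subgroup.map_eq_bot_iff, Subgroup.ker_subtype] at h1
    exact eq_bot_iff.mpr h1
  refine IsPGroup.of_card (n := k) ?_
  rw [← Subgroup.card_mul_index K, hbot, Subgroup.card_bot, one_mul, ← hk, hbot]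

/-- The Fitting subgroup is a Sylow subgroup. -/
theorem fitting_sylow_aux (c : ℕ) : ∀ (G : Type u) [Group G] [Finite G], Nat.card G ≤ c →
    ∀ (p a b : ℕ), p.Prime → p ∣ a → ¬ p ∣ b → Deg2 G a b →
      IsPGroup p (Cfsg.fittingSubgroup G) →
      ⁅Cfsg.fittingSubgroup G, Cfsg.fittingSubgroup G⁆ ≠ ⊥ →
      ¬ p ∣ (Cfsg.fittingSubgroup G).index := by
  induction c with
  | zero => intro G _ _ hc; exact absurd hc (by simp [Nat.card_pos.ne'])
  | succ c ih =>
    intro G _ _ hc p a b hp hpa hpb h hFp hFne
    classical
    haveI := Fact.mk hp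
    haveI := Fintype.ofFinite G
    haveI : Group.IsSolvable G := h.isSolvable
    set F := Cfsg.fittingSubgroup G with hFdef
    rcases eq_or_ne F ⊤ with htop | htop
    · rw [htop, Subgroup.index_top]
      exact hp.not_dvd_one
    -- a character of degree `a`
    obtain ⟨χ, hχ⟩ : ∃ χ : Cfsg.IrrCharacter G, ¬ ⁅F, F⁆ ≤ charKer χ := by
      by_contra hcon
      push Not at hcon
      exact hFne (eq_bot_iff.mpr fun x hx => Subgroup.mem_bot.mpr
        (Characters.Complete.eq_one_of_forall_irr fun χ => hcon χ hx))
    have hχa : dg χ = a := by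
      rcases h χ with h' | h' | h'
      · exact absurd (derived_le_charKer (p := p) F hFp (by rw [h']; exact hp.not_dvd_one)) hχ
      · exact h'
      · exact absurd (derived_le_charKer (p := p) F hFp (by rwa [h'])) hχ
    have ha : 2 ≤ a := hp.two_le.trans (Nat.le_of_dvd (hχa ▸ degree_pos χ) hpa)
    have hab : a ≠ b := fun e => hpb (e ▸ hpa)
    -- the quotient by `F`
    set π := QuotientGroup.mk' F with hπ
    have hcore : ∀ Y : Subgroup (G ⧸ F), Y.Normal → IsPGroup p Y → Y = ⊥ := by
      intro Y hY hYp
      haveI : (Y.comap π).Normal := Subgroup.Normal.comap hY π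
      have hle : Y.comap π ≤ F := by
        refine Cores.le_fittingSubgroup (IsPGroup.isNilpotent (p := p) ?_)
        exact hYp.comap_of_ker_isPGroup π (by rw [hπ, QuotientGroup.ker_mk']; exact hFp)
      rw [← Subgroup.map_comap_eq_self_of_surjective (QuotientGroup.mk'_surjective F) Y,
        ← hπ, Subgroup.map_eq_bot_iff, hπ, QuotientGroup.ker_mk']
      exact hle
    -- reduce to centralising the derived subgroup
    have finish : derivedSeries (G ⧸ F) 2 = ⊥ → (∀ (k : ℕ) (x : G ⧸ F), x ^ p ^ k = 1 →
        ¬ p ∣ Nat.card (commutator (G ⧸ F)) → ∀ y ∈ commutator (G ⧸ F), x * y = y * x) →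
        ¬ p ∣ F.index := by
      intro hmet hcen
      have hcopD : ¬ p ∣ Nat.card (commutator (G ⧸ F)) := by
        intro hd
        obtain ⟨S⟩ : Nonempty (Sylow p (commutator (G ⧸ F))) := inferInstance
        have hcomm : ∀ u v : commutator (G ⧸ F), u * v = v * u := fun u v => by
          rw [derivedSeries_succ, derivedSeries_one,
            Subgroup.commutator_eq_bot_iff_le_centralizer] at hmet
          exact Subtype.ext (Subgroup.mem_centralizer_iff.mp (hmet v.2) u u.2)
        have hSn : (S : Subgroup (commutator (G ⧸ F))).Normal :=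
          ⟨fun s hs g => by rw [hcomm g s, mul_inv_cancel_right]; exact hs⟩
        haveI := S.characteristic_of_normal hSn
        haveI := Cores.normal_map_subtype (commutator (G ⧸ F))
          (S : Subgroup (commutator (G ⧸ F)))
        have h1 := hcore _ inferInstance (S.isPGroup'.map (commutator (G ⧸ F)).subtype)
        rw [Subgroup.map_eq_bot_iff, Subgroup.ker_subtype, le_bot_iff] at h1
        have h2 := S.card_eq_multiplicity
        rw [h1, Subgroup.card_bot] at h2
        have h3 := hp.factorization_pos_of_dvd Nat.card_pos.ne' hd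
        have h4 : 1 < p ^ (Nat.card (commutator (G ⧸ F))).factorization p :=
          Nat.one_lt_pow h3.ne' hp.one_lt
        omega
      rw [Subgroup.index_eq_card]
      exact not_dvd_card hcore hcopD fun k x hx => hcen k x hx hcopD
    -- degrees of the quotient
    have hmax : ∀ ψ : Cfsg.IrrCharacter G, (∀ η : Cfsg.IrrCharacter G, dg η ≤ dg ψ) →
        charKer ψ ≤ F ∧ ¬ F ≤ charKer ψ := fun ψ => max_degree htop ψ
    by_cases hba : b < a
    · -- all degrees of the quotient are prime to p
      have hdeg : ∀ η : Cfsg.IrrCharacter (G ⧸ F), dg η = 1 ∨ dg η = b := by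
        intro η
        rcases h (inflate F η) with h' | h' | h'
        · exact Or.inl ((dg_inflate F η) ▸ h')
        · exfalso
          refine (hmax (inflate F η) fun θ => ?_).2 (le_charKer_inflate F η)
          rw [h']
          rcases h θ with h'' | h'' | h'' <;> omega
        · exact Or.inr ((dg_inflate F η) ▸ h')
      exact finish (metabelian hdeg) fun k x hx _ => centralise_of_degrees (metabelian hdeg)
        (fun η => by rcases hdeg η with h' | h' <;> rw [h'] <;> [exact hp.not_dvd_one; exact hpb])
        k x hx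
    -- now `a < b`
    obtain ⟨ψ, hψ⟩ : ∃ ψ : Cfsg.IrrCharacter G, dg ψ = b := by
      by_contra hcon
      push Not at hcon
      apply htop
      haveI := (pGroup_of_all_dvd hFp fun η hη => by
        rcases (h η).resolve_left hη with h' | h'
        · rwa [h']
        · exact absurd h' (hcon η)).isNilpotent
      exact Cores.fittingSubgroup_eq_top_iff.mpr inferInstance
    have hψmax : ∀ θ : Cfsg.IrrCharacter G, dg θ ≤ dg ψ := fun θ => by
      rcases h θ with h' | h' | h' <;> omega
    have hdeg : ∀ η : Cfsg.IrrCharacter (G ⧸ F), dg η = 1 ∨ dg η = a := by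
      intro η
      rcases h (inflate F η) with h' | h' | h'
      · exact Or.inl ((dg_inflate F η) ▸ h')
      · exact Or.inr ((dg_inflate F η) ▸ h')
      · exfalso
        refine (hmax (inflate F η) fun θ => ?_).2 (le_charKer_inflate F η)
        rw [h', ← hψ]
        exact hψmax θ
    by_cases hcop : a.Coprime b
    · refine finish (metabelian hdeg) fun k x hx hcopD => ?_
      refine comm_of_prime_powers x _ fun s hs j y hy hyj => ?_
      by_cases hy1 : y = 1
      · rw [hy1, mul_one, one_mul]
      haveI := Fact.mk hs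
      have hps : p ≠ s := by
        rintro rfl
        apply hcopD
        obtain ⟨i, -, hi⟩ := (Nat.dvd_prime_pow hp).mp (orderOf_dvd_of_pow_eq_one hyj)
        have h1 : orderOf y ∣ Nat.card (commutator (G ⧸ F)) :=
          (Subgroup.orderOf_mk _ hy) ▸ orderOf_dvd_natCard (⟨y, hy⟩ : commutator (G ⧸ F))
        have hi0 : i ≠ 0 := fun h0 => hy1 (orderOf_eq_one_iff.mp (by rw [hi, h0, pow_zero]))
        exact ((dvd_pow_self p hi0).trans hi.symm.dvd).trans h1
      -- `s` divides `a`
      have hsa : s ∣ a := by
        have hmap : (commutator G).map π = commutator (G ⧸ F) := by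
          rw [commutator_def, commutator_def, Subgroup.map_commutator,
            ← MonoidHom.range_eq_map, MonoidHom.range_eq_top.mpr (QuotientGroup.mk'_surjective F)]
        obtain ⟨g₀, hg₀, hg₀y⟩ := hmap.symm ▸ hy
        obtain ⟨i, r, hr, hord⟩ :=
          Nat.exists_eq_pow_mul_and_not_dvd (orderOf_pos g₀).ne' s hs.ne_one
        set g := g₀ ^ r with hg
        have hgord : g ^ s ^ i = 1 := by
          rw [hg, ← pow_mul, mul_comm, ← hord, pow_orderOf_eq_one]
        have hnotF : ∀ z ∈ Subgroup.zpowers g, z ≠ 1 → z ∉ F := by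
          intro z hz hz1 hzF
          apply hz1
          obtain ⟨e, he⟩ := hFp ⟨z, hzF⟩
          have h1 : z ^ p ^ e = 1 := by simpa using congrArg Subtype.val he
          obtain ⟨l, rfl⟩ := Subgroup.mem_zpowers_iff.mp hz
          have h2 : (g ^ l) ^ s ^ i = 1 := by
            rw [← zpow_natCast, ← zpow_mul, mul_comm, zpow_mul, zpow_natCast, hgord, one_zpow]
          have hco : Nat.Coprime (p ^ e) (s ^ i) :=
            Nat.Coprime.pow e i ((Nat.coprime_primes hp hs).mpr hps)
          exact orderOf_eq_one_iff.mp (Nat.eq_one_of_dvd_coprimes hco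
            (orderOf_dvd_of_pow_eq_one h1) (orderOf_dvd_of_pow_eq_one h2))
        have hgy : π g ≠ 1 := by
          rw [hg, map_pow, hg₀y]
          intro h0
          apply hy1
          have hco : Nat.Coprime r (s ^ j) :=
            Nat.Coprime.pow_right j (hs.coprime_iff_not_dvd.mpr hr).symm
          exact orderOf_eq_one_iff.mp (Nat.eq_one_of_dvd_coprimes hco
            (orderOf_dvd_of_pow_eq_one h0) (orderOf_dvd_of_pow_eq_one hyj))
        have hall : ∀ η, Const χ ψ η → dg η = a := by
          refine (mixed h (by omega) (by omega) hcop hχa hψ).resolve_right fun hII => hχ ?_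
          haveI := Fintype.ofFinite (Cfsg.IrrCharacter G)
          obtain ⟨c, hc, hval, -⟩ := exists_decomp χ ψ
          intro z hz
          rw [mem_charKer]
          have h1 := hval z
          have h2 := hval 1
          have hψz : (ψ : G → ℂ) z = (ψ : G → ℂ) 1 :=
            derived_le_charKer (p := p) F hFp (by rwa [hψ]) hz
          have e : ∀ η, (c η : ℂ) * (η : G → ℂ) z = (c η : ℂ) * (η : G → ℂ) 1 := fun η => by
            by_cases h0 : c η = 0
            · simp [h0]
            · congr 1
              exact derived_le_charKer (p := p) F hFp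
                (by rw [hII η ((hc η).mpr h0)]; exact hpb) hz
          rw [Finset.sum_congr rfl fun η _ => e η, ← h2, hψz] at h1
          exact mul_right_cancel₀ (apply_one_ne_zero ψ) h1
        have hzero : ∀ z : Subgroup.zpowers g, z ≠ 1 → (χ : G → ℂ) z = 0 := by
          intro z hz
          refine vanish h (by omega) (by omega) hcop hχa hψ hall
            ((Subgroup.zpowers_le.mpr (by rw [hg]; exact Subgroup.pow_mem _ hg₀ r)) z.2) fun hker => ?_
          exact hnotF z z.2 (fun h0 => hz (Subtype.ext h0)) ((hmax ψ hψmax).1 hker)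
        haveI := Fintype.ofFinite (Subgroup.zpowers g)
        obtain ⟨e, he⟩ := exists_classInner_nat
          (isCharacter_comp (Subgroup.zpowers g).subtype (isCharacter_irr χ))
          (isCharacter_irr (oneChar (Subgroup.zpowers g)))
        simp only [Cfsg.classInner, oneChar_apply, map_one, mul_one, Function.comp_apply,
          Subgroup.coe_subtype] at he
        rw [Fintype.sum_eq_single (1 : Subgroup.zpowers g) fun z hz => hzero z hz, Subgroup.coe_one,
          inv_mul_eq_iff_eq_mul₀ (Nat.cast_ne_zero.mpr Nat.card_pos.ne'), apply_one χ,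
          show Cfsg.charDegree (χ : G → ℂ) = a from hχa, Nat.card_zpowers] at he
        have he' : a = orderOf g * e := by exact_mod_cast he
        obtain ⟨l, -, hl⟩ := (Nat.dvd_prime_pow hs).mp (orderOf_dvd_of_pow_eq_one hgord)
        have hl0 : l ≠ 0 := fun h0 => hgy (by
          rw [show g = 1 from orderOf_eq_one_iff.mp (by rw [hl, h0, pow_zero]), map_one])
        rw [he', hl]
        exact (dvd_pow_self s hl0).mul_right e
      -- the complement for `s`
      obtain ⟨K, hK, hsK, i, hi⟩ := complement hs (G := G ⧸ F) fun η hη => by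
        rw [(hdeg η).resolve_left hη]
        exact hsa
      have hxK : x ∈ K := by
        rw [← QuotientGroup.eq_one_iff]
        have hco : Nat.Coprime (p ^ k) K.index := by
          rw [hi]
          exact Nat.Coprime.pow k i ((Nat.coprime_primes hp hs).mpr hps)
        refine orderOf_eq_one_iff.mp (Nat.eq_one_of_dvd_coprimes hco
          (orderOf_dvd_of_pow_eq_one (?_ : (QuotientGroup.mk' K x) ^ p ^ k = 1)) ?_)
        · rw [← map_pow, hx, map_one]
        · rw [Subgroup.index_eq_card]
          exact orderOf_dvd_natCard _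
      have hy' : x * y * x⁻¹ ∈ commutator (G ⧸ F) :=
        (inferInstance : (commutator (G ⧸ F)).Normal).conj_mem y hy x
      have hmet := metabelian hdeg
      rw [derivedSeries_succ, derivedSeries_one,
        Subgroup.commutator_eq_bot_iff_le_centralizer] at hmet
      have hcy : Commute (x * y * x⁻¹) y⁻¹ :=
        (Subgroup.mem_centralizer_iff.mp (hmet (inv_mem hy)) _ hy')
      have h1 : (x * y * x⁻¹ * y⁻¹) ^ s ^ j = 1 := by
        rw [hcy.mul_pow, conj_pow, hyj, mul_one, mul_inv_cancel, inv_pow, hyj, inv_one, mul_one]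
      have h2 : x * y * x⁻¹ * y⁻¹ ∈ K := by
        have : x * y * x⁻¹ * y⁻¹ = x * (y * x⁻¹ * y⁻¹) := by group
        rw [this]
        exact K.mul_mem hxK (hK.conj_mem _ (K.inv_mem hxK) y)
      have h3 : orderOf (x * y * x⁻¹ * y⁻¹) = 1 := by
        refine Nat.eq_one_of_dvd_coprimes
          (Nat.Coprime.pow_left j (hs.coprime_iff_not_dvd.mpr hsK))
          (orderOf_dvd_of_pow_eq_one h1) ?_
        rw [← Subgroup.orderOf_mk _ h2]
        exact orderOf_dvd_natCard _
      have h4 := orderOf_eq_one_iff.mp h3
      rwa [mul_inv_eq_one, mul_inv_eq_iff_eq_mul] at h4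
    · -- a common prime
      obtain ⟨s, hs, hsa, hsb⟩ := Nat.Prime.not_coprime_iff_dvd.mp hcop
      haveI := Fact.mk hs
      have hps : p ≠ s := fun e => hpb (e ▸ hsb)
      obtain ⟨K, hK, hsK, i, hi⟩ := complement hs (G := G) fun η hη => by
        rcases (h η).resolve_left hη with h' | h' <;> rwa [h']
      have hFK : F ≤ K := by
        intro x hx
        rw [← QuotientGroup.eq_one_iff]
        obtain ⟨e, he⟩ := hFp ⟨x, hx⟩
        have h1 : x ^ p ^ e = 1 := by simpa using congrArg Subtype.val he
        have hco : Nat.Coprime (p ^ e) K.index := by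
          rw [hi]
          exact Nat.Coprime.pow e i ((Nat.coprime_primes hp hs).mpr hps)
        refine orderOf_eq_one_iff.mp (Nat.eq_one_of_dvd_coprimes hco
          (orderOf_dvd_of_pow_eq_one (?_ : (QuotientGroup.mk' K x) ^ p ^ e = 1)) ?_)
        · rw [← map_pow, h1, map_one]
        · rw [Subgroup.index_eq_card]
          exact orderOf_dvd_natCard _
      have hlt : Nat.card K ≤ c := by
        have h1 : s ∣ Nat.card G :=
          (hsa.trans hχa.symm.dvd).trans (BlocksChars5.Basic.degree_dvd_card χ)
        have h2 := Subgroup.card_mul_index K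
        have h3 : K.index ≠ 1 := fun h0 => hsK (by rw [← h2, h0, mul_one] at h1; exact h1)
        have h4 : K.index ≠ 0 := Subgroup.index_ne_zero_of_finite
        have h5 : 0 < Nat.card K := Nat.card_pos
        have h6 : Nat.card K * 2 ≤ Nat.card K * K.index := Nat.mul_le_mul_left _ (by omega)
        omega
      have hmapF : (Cfsg.fittingSubgroup K).map K.subtype = F := by
        rw [Cores.map_subtype_fittingSubgroup, ← hFdef, inf_eq_right.mpr hFK]
      have hd : ∀ d : ℕ, (p ∣ d / s ^ d.factorization s → p ∣ d) ∧
          (p ∣ d → p ∣ d / s ^ d.factorization s) := fun d => by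
        refine ⟨fun h1 => h1.trans (Nat.div_dvd_of_dvd (Nat.ordProj_dvd d s)), fun h1 => ?_⟩
        have hco : Nat.Coprime p (s ^ d.factorization s) :=
          Nat.Coprime.pow_right _ ((Nat.coprime_primes hp hs).mpr hps)
        exact hco.dvd_of_dvd_mul_left (by rwa [Nat.ordProj_mul_ordCompl_eq_self])
      have hK' := ih K hlt p _ _ hp ((hd a).2 hpa) (fun h1 => hpb ((hd b).1 h1))
        (h.complement hs K hsK hi)
        (hFp.of_equiv ((MulEquiv.subgroupCongr hmapF.symm).trans
          (Subgroup.equivMapOfInjective _ K.subtype K.subtype_injective).symm))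
        (fun h0 => hFne (by rw [← hmapF, ← Subgroup.map_commutator, h0, Subgroup.map_bot]))
      -- the index
      rw [← hmapF, Subgroup.index_map_subtype, hp.dvd_mul, not_or]
      refine ⟨hK', ?_⟩
      rw [hi]
      exact fun h1 => hps ((Nat.prime_dvd_prime_iff_eq hp hs).mp (hp.dvd_of_dvd_pow h1))

end Cfsg.Agent.Lib.BC77.ThreeDegrees
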