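import Cfsg.Agent.Lib.BC77.ThreeDegrees.Solvable
import Cfsg.Agent.Lib.BC77.Garrison
import Cfsg.Agent.Lib.Cores.Basic

/-!
# Character degrees and the Fitting subgroup
-/

set_option autoImplicit false

namespace Cfsg.Agent.Lib.BC77.ThreeDegrees

open scoped ComplexConjugate commutatorElement
open Cfsg.Agent.Lib.Characters.Basic Cfsg.Agent.Lib.Induced.Basic
open Cfsg.Agent.Lib
open Cfsg.Agent.Lib.BlocksChars5.Basic (apply_one charKer mem_charKer charKer_normal degree_pos
  inflate inflate_apply le_charKer_inflate exists_deflate)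

universe u

variable {G : Type u} [Group G] [Finite G]

/-- A character of largest degree. -/
theorem max_degree [Group.IsSolvable G] (hF : Cfsg.fittingSubgroup G ≠ ⊤)
    (χ : Cfsg.IrrCharacter G) (hmax : ∀ ψ : Cfsg.IrrCharacter G, dg ψ ≤ dg χ) :
    charKer χ ≤ Cfsg.fittingSubgroup G ∧ ¬ Cfsg.fittingSubgroup G ≤ charKer χ := by
  haveI := charKer_normal χ
  have hbad : ∀ _ : (¬ charKer χ ≤ Cfsg.fittingSubgroup G ∨
      (charKer χ = Cfsg.fittingSubgroup G ∧ Group.IsSolvable (G ⧸ charKer χ) ∧ charKer χ ≠ ⊤)),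
      False := by
    intro h
    rcases h with h | ⟨h1, h2, h3⟩
    · obtain ⟨ψ, hlt, -⟩ := Garrison.garrison_not_le χ (charKer χ) (mem_charKer χ) h
      exact absurd (hmax ψ) (not_le.mpr hlt)
    · obtain ⟨ψ, hlt, -⟩ := Garrison.garrison_eq χ (charKer χ) (mem_charKer χ) h1 h2 h3
      exact absurd (hmax ψ) (not_le.mpr hlt)
  have hle : charKer χ ≤ Cfsg.fittingSubgroup G := by
    by_contra h
    exact hbad (Or.inl h)
  refine ⟨hle, fun h => hbad (Or.inr ?_)⟩
  have heq := le_antisymm hle h
  exact ⟨heq, inferInstance, heq ▸ hF⟩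

/-- Constituents of a character trivial on the derived subgroup of a normal subgroup. -/
theorem dg_dvd_index (F : Subgroup G) [F.Normal] {χ : Cfsg.IrrCharacter G}
    (h : ⁅F, F⁆ ≤ charKer χ) : dg χ ∣ F.index := by
  classical
  have := Fintype.ofFinite G
  have := Fintype.ofFinite F
  obtain ⟨θ, hθ⟩ := Clifford.Basic.exists_constituent_restrict F χ.2
  obtain ⟨e, he, hei⟩ := BlocksChars5.Restrict.ratio_dvd_nat F χ θ hθ
  have hker : commutator F ≤ charKer θ := by
    rw [commutator_def, Subgroup.commutator_le]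
    intro a _ b _
    rw [mem_charKer]
    refine BC78.CoprimeFix.constituent_ker (G := F) (isCharacter_comp F.subtype (isCharacter_irr χ))
      θ hθ (g := ⁅a, b⁆) ?_
    show (χ : G → ℂ) ((⁅a, b⁆ : F) : G) = (χ : G → ℂ) ((1 : F) : G)
    rw [Subgroup.coe_one]
    exact h (Subgroup.commutator_mem_commutator a.2 b.2)
  obtain ⟨θ', hθ'⟩ := exists_deflate θ (commutator F) hker
  have h1 : dg θ = 1 := by
    rw [← hθ', dg_inflate]
    show Cfsg.charDegree (θ' : F ⧸ commutator F → ℂ) = 1
    exact BlocksChars5.Basic.charDegree_congr (G := F ⧸ commutator F) (H := F ⧸ commutator F)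
      (f' := fun _ => (1 : ℂ))
      (BlocksChars5.Basic.degree_eq_one_of_comm θ' fun a b => by
        show @HMul.hMul (Abelianization F) (Abelianization F) _ _ a b = _
        exact mul_comm _ _) |>.trans (by simp [Cfsg.charDegree])
  rw [show Cfsg.charDegree (θ : F → ℂ) = 1 from h1, mul_one] at he
  exact (show dg χ = e from he) ▸ hei

/-- If the degree is prime to `p`, a normal `p`-subgroup has its derived subgroup in the kernel. -/
theorem derived_le_charKer {p : ℕ} [hp : Fact p.Prime] (F : Subgroup G) [F.Normal]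
    (hF : IsPGroup p F) {χ : Cfsg.IrrCharacter G} (h : ¬ p ∣ dg χ) :
    ⁅F, F⁆ ≤ charKer χ := by
  classical
  have := Fintype.ofFinite G
  have := Fintype.ofFinite F
  obtain ⟨θ, hθ⟩ := Clifford.Basic.exists_constituent_restrict F χ.2
  obtain ⟨e, he, -⟩ := BlocksChars5.Restrict.ratio_dvd_nat F χ θ hθ
  have h1 : (θ : F → ℂ) 1 = 1 := by
    obtain ⟨r, hr⟩ := IsPGroup.iff_card.mp hF
    obtain ⟨i, -, hi⟩ := (Nat.dvd_prime_pow hp.out).mp (hr ▸ BlocksChars5.Basic.degree_dvd_card θ)
    rcases Nat.eq_zero_or_pos i with rfl | hpos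
    · rw [apply_one θ, hi, pow_zero, Nat.cast_one]
    · exact absurd ((((dvd_pow_self p hpos.ne').trans hi.symm.dvd).mul_left e).trans he.symm.dvd) h
  rw [Subgroup.commutator_le]
  intro a ha b hb
  rw [mem_charKer]
  have hf := Clifford.Basic.clifford F χ.2 θ hθ
  have e1 := congrFun hf ⁅(⟨a, ha⟩ : F), ⟨b, hb⟩⁆
  have e2 := congrFun hf 1
  simp only [Pi.smul_apply, Finset.sum_apply, smul_eq_mul, Subgroup.coe_one] at e1 e2
  change (χ : G → ℂ) ⁅a, b⁆ = _ at e1
  rw [e1, e2]
  congr 1
  refine Finset.sum_congr rfl fun x _ => ?_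
  have hc := Clifford.Basic.isIrrCharacter_conjC F x θ.2
  have hc1 : Clifford.Basic.conjC F x (θ : F → ℂ) 1 = 1 := by
    rw [Clifford.Basic.conjC_apply, ← h1]
    exact congrArg (θ : F → ℂ) (Subtype.ext (by simp))
  rw [hc1]
  exact Elem70.Degrees.TwoDegrees.linear_apply_commutator (IsCharacter_of_isIrrCharacter hc) hc1
    (Subgroup.commutator_mem_commutator (Subgroup.mem_top _) (Subgroup.mem_top _))

/-- A normal subgroup of a group with abelian derived subgroup whose elements centralise the
derived subgroup and have prime power order. -/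
theorem not_dvd_card {p : ℕ} [hp : Fact p.Prime]
    (hcore : ∀ Y : Subgroup G, Y.Normal → IsPGroup p Y → Y = ⊥)
    (hcop : ¬ p ∣ Nat.card (commutator G))
    (hcen : ∀ (k : ℕ) (x : G), x ^ p ^ k = 1 → ∀ y ∈ commutator G, x * y = y * x) :
    ¬ p ∣ Nat.card G := by
  intro hd
  obtain ⟨x, hx⟩ := exists_prime_orderOf_dvd_card' p hd
  have hxp : x ^ p = 1 := hx ▸ pow_orderOf_eq_one x
  have hx1 : x ≠ 1 := fun h => hp.out.ne_one (by rw [← hx, h, orderOf_one])
  have hcentral : ∀ g : G, g * x = x * g := by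
    intro g
    set c := ⁅g, x⁆ with hc
    have hcm : c ∈ commutator G :=
      Subgroup.commutator_mem_commutator (Subgroup.mem_top _) (Subgroup.mem_top _)
    have hcx : Commute c x := (hcen 1 x (by rwa [pow_one]) c hcm).symm
    have e : g * x * g⁻¹ = c * x := by rw [hc, commutatorElement_def]; group
    have h1 : (g * x * g⁻¹) ^ p = 1 := by rw [conj_pow, hxp, mul_one, mul_inv_cancel]
    rw [e, hcx.mul_pow, hxp, mul_one] at h1
    have h2 : orderOf (⟨c, hcm⟩ : commutator G) ∣ 1 := by
      rw [← Nat.Coprime.gcd_eq_one (hp.out.coprime_iff_not_dvd.mpr hcop)]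
      exact Nat.dvd_gcd (orderOf_dvd_of_pow_eq_one (Subtype.ext (by simpa using h1)))
        (orderOf_dvd_natCard _)
    have h3 : c = 1 := congrArg Subtype.val (orderOf_eq_one_iff.mp (Nat.dvd_one.mp h2))
    rwa [h3, one_mul, mul_inv_eq_iff_eq_mul] at e
  apply hx1
  have hle : Subgroup.zpowers x ≤ Subgroup.center G := by
    rw [Subgroup.zpowers_le, Subgroup.mem_center_iff]
    exact hcentral
  have hn : (Subgroup.zpowers x).Normal := ⟨fun a ha g => by
    rw [Subgroup.mem_center_iff.mp (hle ha) g, mul_inv_cancel_right]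
    exact ha⟩
  have := hcore _ hn (IsPGroup.of_card (n := 1) (by rw [Nat.card_zpowers, hx, pow_one]))
  exact Subgroup.zpowers_eq_bot.mp this

/-- Commuting with all elements of prime power order. -/
theorem comm_of_prime_powers (x : G) (A : Subgroup G)
    (h : ∀ s : ℕ, s.Prime → ∀ (j : ℕ) (y : G), y ∈ A → y ^ s ^ j = 1 → x * y = y * x) :
    ∀ y ∈ A, x * y = y * x := by
  have htop : ((Subgroup.centralizer ({x} : Set G)).subgroupOf A).index = 1 := by
    refine Nat.eq_one_iff_not_exists_prime_dvd.mpr fun s hs hdvd => ?_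
    haveI := Fact.mk hs
    obtain ⟨S⟩ : Nonempty (Sylow s A) := inferInstance
    have hle : (S : Subgroup A) ≤ (Subgroup.centralizer ({x} : Set G)).subgroupOf A := by
      intro y hy
      obtain ⟨j, hj⟩ := S.isPGroup' ⟨y, hy⟩
      rw [Subgroup.mem_subgroupOf, Subgroup.mem_centralizer_singleton_iff]
      exact (h s hs j y y.2 (by simpa using congrArg (fun z : (S : Subgroup A) => ((z : A) : G)) hj)).symm
    exact S.not_dvd_index (hdvd.trans (Subgroup.index_dvd_of_le hle))
  intro y hy
  have h1 := Subgroup.subgroupOf_eq_top.mp (Subgroup.index_eq_one.mp htop) hy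
  exact (Subgroup.mem_centralizer_singleton_iff.mp h1).symm

/-- All degrees prime to `p`: elements of `p`-power order centralise an abelian derived
subgroup. -/
theorem centralise_of_degrees {p : ℕ} [hp : Fact p.Prime] (hab : derivedSeries G 2 = ⊥)
    (hdeg : ∀ χ : Cfsg.IrrCharacter G, ¬ p ∣ dg χ) (k : ℕ) (x : G) (hx : x ^ p ^ k = 1) :
    ∀ y ∈ commutator G, x * y = y * x := by
  classical
  have := Fintype.ofFinite G
  have := Fintype.ofFinite (commutator G)
  have hcomm : ∀ a b : commutator G, a * b = b * a := fun a b => by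
    rw [derivedSeries_succ, derivedSeries_one,
      Subgroup.commutator_eq_bot_iff_le_centralizer] at hab
    exact Subtype.ext (Subgroup.mem_centralizer_iff.mp (hab b.2) a a.2)
  have hfix : ∀ θ : Cfsg.IrrCharacter (commutator G),
      Clifford.Basic.conjC (commutator G) x θ = (θ : commutator G → ℂ) := by
    intro θ
    obtain ⟨χ, e, hχ, -, -⟩ := exists_over (commutator G) θ
    set T := Clifford.Basic.inertia (commutator G) (θ : commutator G → ℂ)
    have hle : commutator G ≤ T :=
      Clifford.Basic.le_inertia (commutator G) (isClassFunction_irr θ)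
    have hTn : T.Normal := ⟨fun a ha g => by
      have : g * a * g⁻¹ = ⁅g, a⁆ * a := by rw [commutatorElement_def]; group
      rw [this]
      exact T.mul_mem (hle (Subgroup.commutator_mem_commutator (Subgroup.mem_top _)
        (Subgroup.mem_top _))) ha⟩
    have hdvd : T.index ∣ dg χ := by
      have h1 := Clifford.Basic.clifford_degree (commutator G) χ.2 θ hχ
      obtain ⟨i, hi⟩ := exists_classInner_nat
        (isCharacter_comp (commutator G).subtype (isCharacter_irr χ)) (isCharacter_irr θ)
      change Cfsg.classInner (fun n : commutator G => (χ : G → ℂ) n) θ = _ at hi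
      rw [hi, apply_one χ, apply_one θ] at h1
      refine ⟨i * dg θ, ?_⟩
      have h2 : ((dg χ : ℕ) : ℂ) = ((T.index * (i * dg θ) : ℕ) : ℂ) := by
        rw [h1]
        push_cast
        ring
      exact_mod_cast h2
    have hcopT : Nat.Coprime (p ^ k) T.index :=
      Nat.Coprime.pow_left k (hp.out.coprime_iff_not_dvd.mpr fun hd => hdeg χ (hd.trans hdvd))
    have h2 : orderOf (QuotientGroup.mk' T x) ∣ 1 := by
      rw [← hcopT.gcd_eq_one]
      refine Nat.dvd_gcd (orderOf_dvd_of_pow_eq_one (by rw [← map_pow, hx, map_one])) ?_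
      rw [Subgroup.index_eq_card]
      exact orderOf_dvd_natCard _
    exact (Clifford.Basic.mem_inertia _).mp
      ((QuotientGroup.eq_one_iff x).mp (orderOf_eq_one_iff.mp (Nat.dvd_one.mp h2)))
  intro y hy
  have key : (⟨x * y * x⁻¹, (inferInstance : (commutator G).Normal).conj_mem y hy x⟩ :
      commutator G) * (⟨y, hy⟩)⁻¹ = 1 := by
    refine Characters.Complete.eq_one_of_forall_irr fun θ => ?_
    have h1 : (θ : commutator G → ℂ) 1 = 1 :=
      BlocksChars5.Basic.degree_eq_one_of_comm θ hcomm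
    have h2 := congrFun (hfix θ) ⟨y, hy⟩
    rw [Clifford.Basic.conjC_apply] at h2
    rw [Characters.Linear.apply_mul_of_degree_one (isCharacter_irr θ) h1, h2,
      ← Characters.Linear.apply_mul_of_degree_one (isCharacter_irr θ) h1, mul_inv_cancel]
  have h3 : x * y * x⁻¹ = y := congrArg Subtype.val (mul_inv_eq_one.mp key)
  rwa [mul_inv_eq_iff_eq_mul] at h3

end Cfsg.Agent.Lib.BC77.ThreeDegrees
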