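import Cfsg.Agent.Lib.BC77.ThreeDegrees.Derived

/-!
# Derived length at most three for at most three character degrees
-/

set_option autoImplicit false

namespace Cfsg.Agent.Lib.BC77.ThreeDegrees

open scoped ComplexConjugate commutatorElement
open Cfsg.Agent.Lib.Characters.Basic Cfsg.Agent.Lib.Induced.Basic
open Cfsg.Agent.Lib
open Cfsg.Agent.Lib.BlocksChars5.Basic (apply_one charKer mem_charKer charKer_normal degree_pos
  inflate inflate_apply le_charKer_inflate exists_deflate)

universe u

theorem derived_three_aux (c : ℕ) : ∀ (G : Type u) [Group G] [Finite G], Nat.card G ≤ c →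
    ∀ m n : ℕ, Deg2 G m n → derivedSeries G 3 = ⊥ := by
  induction c with
  | zero => intro G _ _ hc; exact absurd hc (by simp [Nat.card_pos.ne'])
  | succ c ih =>
    intro G _ _ hc m n h
    classical
    haveI := Fintype.ofFinite G
    haveI : Group.IsSolvable G := h.isSolvable
    by_contra hne
    haveI : Nontrivial G := by
      by_contra hnt
      haveI := not_nontrivial_iff_subsingleton.mp hnt
      exact hne (Subsingleton.elim _ _)
    -- every nontrivial normal subgroup contains the third derived subgroup
    have hmin : ∀ X : Subgroup G, ∀ _ : X.Normal, X ≠ ⊥ → derivedSeries G 3 ≤ X := by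
      intro X _ hX
      have h0 : derivedSeries (G ⧸ X) 3 = ⊥ := by
        refine ih (G ⧸ X) ?_ m n (h.quot X)
        have h1 := Subgroup.card_eq_card_quotient_mul_card_subgroup X
        have h2 : 2 ≤ Nat.card X := Finite.one_lt_card_iff_nontrivial.mpr
          ((Subgroup.nontrivial_iff_ne_bot X).mpr hX)
        have h3 : Nat.card (G ⧸ X) * 2 ≤ Nat.card (G ⧸ X) * Nat.card X := Nat.mul_le_mul_left _ h2
        have h4 : 0 < Nat.card (G ⧸ X) := Nat.card_pos
        omega
      have h1 := map_derivedSeries_le_derivedSeries (QuotientGroup.mk' X) 3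
      rw [h0, le_bot_iff, Subgroup.map_eq_bot_iff, QuotientGroup.ker_mk'] at h1
      exact h1
    -- the Fitting subgroup is a p-group
    set F := Cfsg.fittingSubgroup G with hFdef
    have hFne : F ≠ ⊥ := Cores.fittingSubgroup_ne_bot
    have hDF : derivedSeries G 3 ≤ F := hmin F inferInstance hFne
    obtain ⟨p, hp, hpD⟩ : ∃ p : ℕ, p.Prime ∧ p ∣ Nat.card (derivedSeries G 3) :=
      Nat.exists_prime_and_dvd fun h1 => hne (Subgroup.card_eq_one.mp h1)
    haveI := Fact.mk hp
    have hFp : IsPGroup p F := by
      have hcores : ∀ (q : ℕ) [Fact q.Prime], q ≠ p → Cfsg.pCore q G = ⊥ := by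
        intro q hq hqp
        by_contra hX
        have h1 : Nat.card (derivedSeries G 3) ∣ Nat.card (Cfsg.pCore q G) :=
          Subgroup.card_dvd_of_le (hmin _ inferInstance hX)
        obtain ⟨r, hr⟩ := IsPGroup.iff_card.mp (Cores.pCore_isPGroup (G := G) q)
        have h2 : p ∣ q ^ r := hpD.trans (hr ▸ h1)
        exact hqp ((Nat.prime_dvd_prime_iff_eq hp hq.out).mp (hp.dvd_of_dvd_pow h2)).symm
      refine (Cores.pCore_isPGroup (G := G) p).to_le ?_
      rw [hFdef, Cores.fittingSubgroup_eq_iSup_pCore]
      refine iSup_le fun q => ?_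
      haveI := Fact.mk q.2
      rcases eq_or_ne (q : ℕ) p with hq | hq
      · rw [hq]
      · rw [hcores q hq]
        exact bot_le
    -- not every nonlinear degree is divisible by p
    have hnotall : ¬ ∀ χ : Cfsg.IrrCharacter G, dg χ ≠ 1 → p ∣ dg χ := fun hall => by
      haveI := (pGroup_of_all_dvd hFp hall).isNilpotent
      exact hne (nilpotent_case h)
    have hFtop : F ≠ ⊤ := fun htop => by
      haveI : Group.IsNilpotent G := Cores.fittingSubgroup_eq_top_iff.mp htop
      exact hne (nilpotent_case h)
    -- the second derived subgroup lies in F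
    obtain ⟨χ₀, hχ₀⟩ : ∃ χ₀ : Cfsg.IrrCharacter G, ∀ ψ : Cfsg.IrrCharacter G, dg ψ ≤ dg χ₀ := by
      haveI : Nonempty (Cfsg.IrrCharacter G) := ⟨oneChar G⟩
      exact Finite.exists_max dg
    have hdeg : ∃ d : ℕ, ∀ η : Cfsg.IrrCharacter (G ⧸ F), dg η = 1 ∨ dg η = d := by
      have hne0 : ∀ η : Cfsg.IrrCharacter (G ⧸ F), dg η ≠ dg χ₀ := fun η he =>
        (max_degree hFtop (inflate F η) (by rw [dg_inflate, he]; exact hχ₀)).2
          (le_charKer_inflate F η)
      rcases h χ₀ with h' | h' | h'
      · refine ⟨1, fun η => Or.inl ?_⟩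
        have h1 := hχ₀ (inflate F η)
        have h2 := degree_pos η
        rw [dg_inflate, h'] at h1
        change 0 < dg η at h2
        omega
      · refine ⟨n, fun η => ?_⟩
        rcases h.quot F η with h'' | h'' | h''
        · exact Or.inl h''
        · exact absurd (h''.trans h'.symm) (hne0 η)
        · exact Or.inr h''
      · refine ⟨m, fun η => ?_⟩
        rcases h.quot F η with h'' | h'' | h''
        · exact Or.inl h''
        · exact Or.inr h''
        · exact absurd (h''.trans h'.symm) (hne0 η)
    obtain ⟨d, hdeg⟩ := hdeg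
    have hD2 : derivedSeries G 2 ≤ F := by
      have h1 := map_derivedSeries_le_derivedSeries (QuotientGroup.mk' F) 2
      rw [metabelian hdeg, le_bot_iff, Subgroup.map_eq_bot_iff, QuotientGroup.ker_mk'] at h1
      exact h1
    -- F is not abelian
    have hFab : ⁅F, F⁆ ≠ ⊥ := fun h0 => hne (eq_bot_iff.mpr (by
      rw [derivedSeries_succ, ← h0]
      exact Subgroup.commutator_mono hD2 hD2))
    obtain ⟨χ, hχ⟩ : ∃ χ : Cfsg.IrrCharacter G, ¬ ⁅F, F⁆ ≤ charKer χ := by
      by_contra hcon
      push Not at hcon
      exact hFab (eq_bot_iff.mpr fun x hx => Subgroup.mem_bot.mpr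
        (Characters.Complete.eq_one_of_forall_irr fun χ => hcon χ hx))
    have hpχ : p ∣ dg χ := by
      by_contra h1
      exact hχ (derived_le_charKer F hFp h1)
    -- labels
    obtain ⟨a, b, hab, hpa, hpb⟩ : ∃ a b : ℕ, Deg2 G a b ∧ p ∣ a ∧ ¬ p ∣ b := by
      by_cases hm : p ∣ m
      · by_cases hn : p ∣ n
        · exfalso
          exact hnotall fun ψ hψ => by
            rcases (h ψ).resolve_left hψ with h' | h' <;> rwa [h']
        · exact ⟨m, n, h, hm, hn⟩
      · by_cases hn : p ∣ n
        · exact ⟨n, m, h.symm, hn, hm⟩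
        · exfalso
          rcases h χ with h' | h' | h' <;> rw [h'] at hpχ
          · exact hp.not_dvd_one hpχ
          · exact hm hpχ
          · exact hn hpχ
    have hidx : ¬ p ∣ F.index :=
      fitting_sylow_aux (Nat.card G) G le_rfl p a b hp hpa hpb hab hFp hFab
    -- F is metabelian
    have hF2 : derivedSeries F 2 = ⊥ := by
      refine metabelian (a := p ^ a.factorization p) fun θ => ?_
      obtain ⟨η, hη⟩ := dg_normal_sylow hp F hFp hidx θ
      rcases hab η with h' | h' | h' <;> rw [h'] at hη
      · exact Or.inl (by simpa using hη)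
      · exact Or.inr hη
      · exact Or.inl (by rw [hη, Nat.factorization_eq_zero_of_not_dvd hpb, pow_zero])
    -- the quotient by the derived subgroup of F
    have hD2' : derivedSeries G 2 ≤ ⁅F, F⁆ := by
      have hq : derivedSeries (G ⧸ ⁅F, F⁆) 2 = ⊥ := by
        refine metabelian (a := b) fun η => ?_
        have h1 := dg_dvd_index F (χ := inflate ⁅F, F⁆ η) (le_charKer_inflate _ η)
        rcases hab (inflate ⁅F, F⁆ η) with h' | h' | h'
        · exact Or.inl ((dg_inflate _ η) ▸ h')
        · exact absurd ((hpa.trans h'.symm.dvd).trans h1) hidx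
        · exact Or.inr ((dg_inflate _ η) ▸ h')
      have h1 := map_derivedSeries_le_derivedSeries (QuotientGroup.mk' ⁅F, F⁆) 2
      rw [hq, le_bot_iff, Subgroup.map_eq_bot_iff, QuotientGroup.ker_mk'] at h1
      exact h1
    apply hne
    rw [derivedSeries_succ, eq_bot_iff]
    refine (Subgroup.commutator_mono hD2' hD2').trans (le_of_eq ?_)
    have e : (derivedSeries F 2).map F.subtype = ⁅⁅F, F⁆, ⁅F, F⁆⁆ := by
      rw [derivedSeries_succ, derivedSeries_one, commutator_def, Subgroup.map_commutator,
        Subgroup.map_commutator, ← MonoidHom.range_eq_map, Subgroup.range_subtype]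
    rw [← e, hF2, Subgroup.map_bot]

/-- Three character degrees give derived length at most three. -/
theorem Deg2.derived_three {G : Type u} [Group G] [Finite G] {m n : ℕ} (h : Deg2 G m n) :
    derivedSeries G 3 = ⊥ :=
  derived_three_aux (Nat.card G) G le_rfl m n h

end Cfsg.Agent.Lib.BC77.ThreeDegrees
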