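import Cfsg.Agent.Lib.BC77.ThreeDegrees.Basic
import Cfsg.Agent.Lib.Induced.Burnside

/-!
# Products of characters of two coprime degrees
-/

set_option autoImplicit false

namespace Cfsg.Agent.Lib.BC77.ThreeDegrees

open scoped ComplexConjugate
open Cfsg.Agent.Lib.Characters.Basic Cfsg.Agent.Lib.Induced.Basic
open Cfsg.Agent.Lib
open Cfsg.Agent.Lib.BlocksChars5.Basic (apply_one charKer mem_charKer degree_pos)

universe u

variable {G : Type u} [Group G] [Fintype G]

theorem classInner_mul (χ ψ η : G → ℂ) :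
    Cfsg.classInner (χ * ψ) η = Cfsg.classInner χ (η * fun g => conj (ψ g)) := by
  simp only [Cfsg.classInner, Pi.mul_apply]
  congr 1
  refine Finset.sum_congr rfl fun g _ => ?_
  rw [map_mul, Complex.conj_conj]
  ring

/-- The constituents of a product. -/
def Const (χ ψ a : Cfsg.IrrCharacter G) : Prop :=
  Cfsg.classInner ((χ : G → ℂ) * (ψ : G → ℂ)) (a : G → ℂ) ≠ 0

/-- A linear constituent makes the factors conjugate up to a linear character. -/
theorem linear_const {χ ψ l : Cfsg.IrrCharacter G} (h : Const χ ψ l) (hl : dg l = 1) :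
    dg χ = dg ψ ∧ ∀ g, (ψ : G → ℂ) g = (l : G → ℂ) g * conj ((χ : G → ℂ) g) := by
  have hl1 := apply_one_eq_one hl
  have hψc : Cfsg.IsIrrCharacter G (fun g => conj ((ψ : G → ℂ) g)) :=
    Characters.Linear.isIrrCharacter_conj ψ.2
  have hirr : Cfsg.IsIrrCharacter G ((l : G → ℂ) * fun g => conj ((ψ : G → ℂ) g)) :=
    Characters.Linear.isIrrCharacter_linear_mul (isCharacter_irr l) hl1 hψc
  have heq : χ = (⟨_, hirr⟩ : Cfsg.IrrCharacter G) := by
    by_contra hne
    apply h
    rw [classInner_mul]
    exact classInner_irr_of_ne hne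
  have hv : ∀ g, (χ : G → ℂ) g = (l : G → ℂ) g * conj ((ψ : G → ℂ) g) := fun g =>
    congrFun (congrArg Subtype.val heq) g
  refine ⟨?_, fun g => ?_⟩
  · have h1 := hv 1
    rw [hl1, one_mul, conj_apply_one (isCharacter_irr ψ), apply_one χ, apply_one ψ] at h1
    exact_mod_cast h1
  · have hu : (l : G → ℂ) g * conj ((l : G → ℂ) g) = 1 := by
      rw [← apply_inv (isCharacter_irr l),
        ← Characters.Linear.apply_mul_of_degree_one (isCharacter_irr l) hl1, mul_inv_cancel, hl1]
    rw [hv g, map_mul, Complex.conj_conj, ← mul_assoc, hu, one_mul]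

/-- The decomposition of a product. -/
theorem exists_decomp [Fintype (Cfsg.IrrCharacter G)] (χ ψ : Cfsg.IrrCharacter G) :
    ∃ c : Cfsg.IrrCharacter G → ℕ, (∀ a, Const χ ψ a ↔ c a ≠ 0) ∧
      (∀ g, (χ : G → ℂ) g * (ψ : G → ℂ) g = ∑ a, (c a : ℂ) * (a : G → ℂ) g) ∧
      dg χ * dg ψ = ∑ a, c a * dg a := by
  have hc := isCharacter_mul (isCharacter_irr χ) (isCharacter_irr ψ)
  choose c hc' using fun a : Cfsg.IrrCharacter G => exists_classInner_nat hc (isCharacter_irr a)
  have hg : ∀ g, (χ : G → ℂ) g * (ψ : G → ℂ) g = ∑ a, (c a : ℂ) * (a : G → ℂ) g := by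
    intro g
    have h := congrFun (Characters.Complete.classFunction_eq_sum
      (isClassFunction_of_isCharacter hc)) g
    simp only [Finset.sum_apply, Pi.smul_apply, smul_eq_mul, hc'] at h
    exact h
  refine ⟨c, fun a => ?_, hg, ?_⟩
  · rw [Const, hc', Nat.cast_ne_zero]
  · have h := hg 1
    simp only [apply_one] at h
    exact_mod_cast h

variable {m n : ℕ}

/-- The splitting of a weighted sum by the two degrees. -/
theorem sum_split [Fintype (Cfsg.IrrCharacter G)] (h : Deg2 G m n) (hmn : m ≠ n)
    (c : Cfsg.IrrCharacter G → ℕ) (hlin : ∀ a, dg a = 1 → c a = 0) :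
    ∑ a, c a * dg a = m * ∑ a ∈ Finset.univ.filter (fun a => dg a = m), c a +
      n * ∑ a ∈ Finset.univ.filter (fun a => dg a = n), c a := by
  rw [Finset.mul_sum, Finset.mul_sum, Finset.sum_filter, Finset.sum_filter, ← Finset.sum_add_distrib]
  refine Finset.sum_congr rfl fun a _ => ?_
  rcases h a with h' | h' | h'
  · simp [hlin a h']
  · rw [h', if_pos rfl, if_neg hmn, add_zero, mul_comm]
  · rw [h', if_neg hmn.symm, if_pos rfl, zero_add, mul_comm]

/-- A product of two characters of degree `m` which are not conjugate up to a linear factor. -/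
theorem no_large (h : Deg2 G m n) (hm : 1 < m) (hmn : m < n) (hcop : m.Coprime n)
    {χ η : Cfsg.IrrCharacter G} (hχ : dg χ = m) (hη : dg η = m)
    (hne : ¬ ∃ l : Cfsg.IrrCharacter G, dg l = 1 ∧
      ∀ g, (η : G → ℂ) g = (l : G → ℂ) g * conj ((χ : G → ℂ) g))
    {a : Cfsg.IrrCharacter G} (ha : dg a = n) : ¬ Const χ η a := by
  classical
  haveI := Fintype.ofFinite (Cfsg.IrrCharacter G)
  obtain ⟨c, hc, -, hsum⟩ := exists_decomp χ η
  have hlin : ∀ l, dg l = 1 → c l = 0 := fun l hl => by
    by_contra h0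
    exact hne ⟨l, hl, (linear_const ((hc l).mpr h0) hl).2⟩
  rw [hχ, hη, sum_split h hmn.ne c hlin] at hsum
  set B := ∑ a ∈ Finset.univ.filter (fun a => dg a = n), c a with hB
  have hmB : m ∣ B := by
    apply hcop.dvd_of_dvd_mul_left
    exact (Nat.dvd_add_right (dvd_mul_right m _)).mp (hsum ▸ dvd_mul_right m m)
  have hB0 : B = 0 := by
    rcases Nat.eq_zero_or_pos B with h0 | hpos
    · exact h0
    · have h1 := Nat.le_of_dvd hpos hmB
      have h2 := Nat.mul_le_mul_left n h1
      have h3 : m * m < n * m := Nat.mul_lt_mul_of_pos_right hmn (by omega)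
      omega
  intro hca
  exact (hc a).mp hca (Finset.sum_eq_zero_iff.mp hB0 a (by simp [ha]))

/-- The constituents of a product of degrees `m` and `n` all have the same degree. -/
theorem mixed (h : Deg2 G m n) (hm : 1 < m) (hmn : m < n) (hcop : m.Coprime n)
    {χ ψ : Cfsg.IrrCharacter G} (hχ : dg χ = m) (hψ : dg ψ = n) :
    (∀ a, Const χ ψ a → dg a = m) ∨ ∀ a, Const χ ψ a → dg a = n := by
  classical
  haveI := Fintype.ofFinite (Cfsg.IrrCharacter G)
  obtain ⟨c, hc, -, hsum⟩ := exists_decomp χ ψ
  have hlin : ∀ l, dg l = 1 → c l = 0 := fun l hl => by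
    by_contra h0
    have := (linear_const ((hc l).mpr h0) hl).1
    rw [hχ, hψ] at this
    omega
  rw [hχ, hψ, sum_split h hmn.ne c hlin] at hsum
  set A := ∑ a ∈ Finset.univ.filter (fun a => dg a = m), c a with hA
  set B := ∑ a ∈ Finset.univ.filter (fun a => dg a = n), c a with hB
  obtain ⟨x, hx⟩ : n ∣ A := by
    apply hcop.symm.dvd_of_dvd_mul_left
    exact (Nat.dvd_add_left (dvd_mul_right n _)).mp (hsum ▸ dvd_mul_left n m)
  obtain ⟨y, hy⟩ : m ∣ B := by
    apply hcop.dvd_of_dvd_mul_left
    exact (Nat.dvd_add_right (dvd_mul_right m _)).mp (hsum ▸ dvd_mul_right m n)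
  have hxy : x + y = 1 := by
    rw [hx, hy] at hsum
    have : m * n * (x + y) = m * n * 1 := by
      rw [mul_one]
      conv_rhs => rw [hsum]
      ring
    exact mul_left_cancel₀ (Nat.mul_ne_zero (by omega) (by omega)) this
  have hzero : ∀ {d : ℕ}, (∑ a ∈ Finset.univ.filter (fun a => dg a = d), c a) = 0 →
      ∀ a, Const χ ψ a → dg a ≠ d := fun h0 a ha hd =>
    (hc a).mp ha (Finset.sum_eq_zero_iff.mp h0 a (by simp [hd]))
  rcases Nat.eq_zero_or_pos x with h0 | h1
  · right
    intro a ha
    rcases h a with h' | h' | h'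
    · exact absurd (hlin a h') ((hc a).mp ha)
    · exact absurd h' (hzero (show A = 0 by rw [hx, h0, mul_zero]) a ha)
    · exact h'
  · left
    intro a ha
    rcases h a with h' | h' | h'
    · exact absurd (hlin a h') ((hc a).mp ha)
    · exact h'
    · exact absurd h' (hzero (show B = 0 by rw [hy, show y = 0 by omega, mul_zero]) a ha)

/-- If the product has only constituents of degree `m`, the smaller character vanishes on the
derived subgroup outside the kernel of the larger one. -/
theorem vanish (h : Deg2 G m n) (hm : 1 < m) (hmn : m < n) (hcop : m.Coprime n)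
    {χ ψ : Cfsg.IrrCharacter G} (hχ : dg χ = m) (hψ : dg ψ = n)
    (hall : ∀ a, Const χ ψ a → dg a = m) {g : G} (hg : g ∈ commutator G)
    (hk : g ∉ charKer ψ) : (χ : G → ℂ) g = 0 := by
  classical
  haveI := Fintype.ofFinite (Cfsg.IrrCharacter G)
  obtain ⟨c, hc, hval, hsum⟩ := exists_decomp χ ψ
  have hterm : ∀ η, (c η : ℂ) * (η : G → ℂ) g = (c η : ℂ) * (χ : G → ℂ) g := by
    intro η
    by_cases h0 : c η = 0
    · simp [h0]
    congr 1
    have hη := hall η ((hc η).mpr h0)
    have hco : Const χ (Characters.Linear.conjChar η) (Characters.Linear.conjChar ψ) := by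
      have h1 := (hc η).mpr h0
      unfold Const at h1 ⊢
      rw [classInner_mul] at h1 ⊢
      intro h2
      apply h1
      rw [← h2]
      congr 1
      funext g
      simp only [Pi.mul_apply, Characters.Linear.conjChar_apply, Complex.conj_conj]
      ring
    have hdc : ∀ a : Cfsg.IrrCharacter G, dg (Characters.Linear.conjChar a) = dg a := fun a =>
      BlocksChars5.Basic.charDegree_congr (f := (Characters.Linear.conjChar a : G → ℂ))
        (f' := (a : G → ℂ))
        (by rw [Characters.Linear.conjChar_apply, conj_apply_one (isCharacter_irr a)])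
    by_contra hne
    refine no_large h hm hmn hcop hχ ((hdc η).trans hη) ?_ ((hdc ψ).trans hψ) hco
    rintro ⟨l, hl, hlv⟩
    apply hne
    have h1 := hlv g
    rw [Characters.Linear.conjChar_apply,
      Elem70.Degrees.TwoDegrees.linear_apply_commutator (isCharacter_irr l) (apply_one_eq_one hl) hg,
      one_mul] at h1
    exact (starRingEnd ℂ).injective h1
  have hn : ∑ a, c a = n := by
    rw [hχ, hψ] at hsum
    have h1 : ∑ a, c a * dg a = ∑ a, c a * m := Finset.sum_congr rfl fun a _ => by
      by_cases h0 : c a = 0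
      · simp [h0]
      · rw [hall a ((hc a).mpr h0)]
    rw [h1, ← Finset.sum_mul, mul_comm] at hsum
    exact (Nat.eq_of_mul_eq_mul_right (by omega) hsum).symm
  have h1 := hval g
  rw [Finset.sum_congr rfl (fun η _ => hterm η), ← Finset.sum_mul, ← Nat.cast_sum, hn,
    ← hψ, ← apply_one ψ, mul_comm ((ψ : G → ℂ) 1)] at h1
  by_contra h0
  exact hk (mul_left_cancel₀ h0 h1)

/-- In a group without centre a faithful character of degree `m` cannot map a character of degree
`n` to characters of degree `n`. -/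
theorem closed_false (h : Deg2 G m n) (hm : 1 < m) (hmn : m < n) (hcop : m.Coprime n)
    (hZ : Subgroup.center G = ⊥) {χ ψ : Cfsg.IrrCharacter G} (hχ : dg χ = m)
    (hfaith : charKer χ = ⊥) (hψ : dg ψ = n) (hall : ∀ a, Const χ ψ a → dg a = n) : False := by
  classical
  haveI := Fintype.ofFinite (Cfsg.IrrCharacter G)
  set χc := Characters.Linear.conjChar χ with hχc'
  have hdc : dg χc = m := by
    rw [← hχ]
    exact BlocksChars5.Basic.charDegree_congr
      (f := (Characters.Linear.conjChar χ : G → ℂ)) (f' := (χ : G → ℂ))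
      (by rw [Characters.Linear.conjChar_apply, conj_apply_one (isCharacter_irr χ)])
  let S : Finset (Cfsg.IrrCharacter G) :=
    Finset.univ.filter fun a => dg a = n ∧ ∀ b, Const χ a b → dg b = n
  have hS : ∀ a, a ∈ S ↔ dg a = n ∧ ∀ b, Const χ a b → dg b = n := fun a => by simp [S]
  have hsymm : ∀ {a z : Cfsg.IrrCharacter G}, Const χ a z ↔ Const χc z a := by
    intro a z
    have e : Cfsg.classInner ((χc : G → ℂ) * (z : G → ℂ)) a =
        conj (Cfsg.classInner ((χ : G → ℂ) * (a : G → ℂ)) z) := by
      simp only [Cfsg.classInner, Pi.mul_apply, map_mul, map_inv₀, map_natCast, map_sum,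
        Complex.conj_conj, hχc', Characters.Linear.conjChar_apply]
      congr 1
      exact Finset.sum_congr rfl fun g _ => by ring
    rw [Const, Const, e, map_ne_zero]
  let Ψ : Cfsg.IrrCharacter G → G → ℂ := fun a g =>
    (χ : G → ℂ) g * conj ((χ : G → ℂ) g) * (a : G → ℂ) g
  have hΨ : ∀ a b : Cfsg.IrrCharacter G,
      Cfsg.classInner (Ψ a) (b : G → ℂ) = conj (Cfsg.classInner (Ψ b) (a : G → ℂ)) := by
    intro a b
    simp only [Cfsg.classInner, Ψ, map_mul, map_inv₀, map_natCast, map_sum, Complex.conj_conj]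
    congr 1
    exact Finset.sum_congr rfl fun g _ => by ring
  have hclosed : ∀ a ∈ S, ∀ b, b ∉ S → Cfsg.classInner (Ψ a) (b : G → ℂ) = 0 := by
    intro a ha b hb
    obtain ⟨c, hc, hval, -⟩ := exists_decomp χ a
    have e : Ψ a = ∑ z, (c z : ℂ) • ((χc : G → ℂ) * (z : G → ℂ)) := by
      funext g
      simp only [Ψ, Finset.sum_apply, Pi.smul_apply, Pi.mul_apply, smul_eq_mul, hχc',
        Characters.Linear.conjChar_apply]
      rw [mul_right_comm, hval g, Finset.sum_mul]
      exact Finset.sum_congr rfl fun z _ => by ring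
    rw [e, classInner_sum_left]
    refine Finset.sum_eq_zero fun z _ => ?_
    rw [classInner_smul_left]
    by_cases h0 : c z = 0
    · simp [h0]
    refine mul_eq_zero_of_right _ ?_
    by_contra hzb
    apply hb
    have hz := ((hS a).mp ha).2 z ((hc z).mpr h0)
    have hza : Const χc z a := hsymm.mp ((hc z).mpr h0)
    have htype := (mixed h hm hmn hcop hdc hz).resolve_left fun h' => by
      have := h' a hza
      rw [((hS a).mp ha).1] at this
      omega
    have hbn : dg b = n := htype b hzb
    have hbz : Const χ b z := hsymm.mpr hzb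
    refine (hS b).mpr ⟨hbn, (mixed h hm hmn hcop hχ hbn).resolve_left fun h' => ?_⟩
    have := h' z hbz
    omega
  set F : G → ℂ := ∑ a ∈ S, (a : G → ℂ) 1 • (a : G → ℂ) with hF
  have hFapp : ∀ g, F g = ∑ a ∈ S, (a : G → ℂ) 1 * (a : G → ℂ) g := fun g => by
    simp [hF, Finset.sum_apply]
  have hFcl : Cfsg.IsClassFunction G F := fun g k => by
    simp only [hFapp]
    exact Finset.sum_congr rfl fun a _ => by rw [isClassFunction_irr a g k]
  have hΦcl : Cfsg.IsClassFunction G
      (fun g => (χ : G → ℂ) g * conj ((χ : G → ℂ) g) * F g) := fun g k => by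
    simp only [isClassFunction_irr χ g k, hFcl g k]
  have hkey : (fun g => (χ : G → ℂ) g * conj ((χ : G → ℂ) g) * F g) =
      ((m : ℂ) * m) • F := by
    refine Characters.Complete.classFunction_ext hΦcl
      (Characters.Complete.classFun_smul _ hFcl) fun b => ?_
    have e : (fun g => (χ : G → ℂ) g * conj ((χ : G → ℂ) g) * F g) =
        ∑ a ∈ S, (a : G → ℂ) 1 • Ψ a := by
      funext g
      simp only [hFapp, Finset.mul_sum, Finset.sum_apply, Pi.smul_apply, smul_eq_mul, Ψ]
      exact Finset.sum_congr rfl fun a _ => by ring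
    have hFb : Cfsg.classInner F (b : G → ℂ) = if b ∈ S then (b : G → ℂ) 1 else 0 := by
      simp only [hF, classInner_sum_left, classInner_smul_left, classInner_irr, mul_ite, mul_one,
        mul_zero]
      rw [Finset.sum_ite_eq' S b fun a => (a : G → ℂ) 1]
    rw [e, classInner_sum_left, classInner_smul_left, hFb]
    simp only [classInner_smul_left]
    split_ifs with hb
    · rw [Finset.sum_subset (Finset.subset_univ S) fun a _ ha => by
        rw [hΨ, hclosed b hb a ha, map_zero, mul_zero]]
      have hreg : ∀ g : G, (χ : G → ℂ) g * conj ((χ : G → ℂ) g) *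
          ∑ a : Cfsg.IrrCharacter G, (a : G → ℂ) 1 * (a : G → ℂ) g =
          (m : ℂ) * m * ∑ a : Cfsg.IrrCharacter G, (a : G → ℂ) 1 * (a : G → ℂ) g := by
        intro g
        rcases eq_or_ne g 1 with rfl | hg
        · rw [conj_apply_one (isCharacter_irr χ), apply_one χ,
            show Cfsg.charDegree (χ : G → ℂ) = m from hχ]
        · rw [Induced.Burnside.sum_degree_mul_eq_zero hg, mul_zero, mul_zero]
      calc ∑ a : Cfsg.IrrCharacter G, (a : G → ℂ) 1 * Cfsg.classInner (Ψ a) (b : G → ℂ)
          = Cfsg.classInner (∑ a : Cfsg.IrrCharacter G, (a : G → ℂ) 1 • Ψ a) (b : G → ℂ) := by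
            simp only [classInner_sum_left, classInner_smul_left]
        _ = Cfsg.classInner (((m : ℂ) * m) •
              ∑ a : Cfsg.IrrCharacter G, (a : G → ℂ) 1 • (a : G → ℂ)) (b : G → ℂ) := by
            congr 1
            funext g
            simp only [Finset.sum_apply, Pi.smul_apply, smul_eq_mul, Ψ]
            rw [← hreg g, Finset.mul_sum]
            exact Finset.sum_congr rfl fun a _ => by ring
        _ = _ := by
            simp only [classInner_smul_left, classInner_sum_left, classInner_irr, mul_ite, mul_one,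
              mul_zero]
            rw [Finset.sum_ite_eq' Finset.univ b fun a => (a : G → ℂ) 1,
              if_pos (Finset.mem_univ b)]
    · rw [mul_zero]
      exact Finset.sum_eq_zero fun a ha => by rw [hclosed a ha b hb, mul_zero]
  have hzero : ∀ g : G, g ≠ 1 → F g = 0 := by
    intro g hg
    have h1 := congrFun hkey g
    simp only [Pi.smul_apply, smul_eq_mul] at h1
    by_contra hF0
    have h2 := mul_right_cancel₀ hF0 h1
    obtain ⟨k, ρ, hρ, hρχ⟩ := χ.2
    have hn1 : ‖(χ : G → ℂ) g‖ = (m : ℝ) := by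
      rw [Complex.mul_conj'] at h2
      have h3 : ‖(χ : G → ℂ) g‖ ^ 2 = (m : ℝ) ^ 2 := by
        rw [sq (m : ℝ)]
        exact_mod_cast h2
      exact (sq_eq_sq₀ (norm_nonneg _) (Nat.cast_nonneg m)).mp h3
    have hdim : (Module.finrank ℂ (Fin k → ℂ) : ℝ) = m := by
      have h4 := apply_one χ
      rw [show Cfsg.charDegree (χ : G → ℂ) = m from hχ, ← hρχ, Representation.char_one,
        Nat.cast_inj] at h4
      exact_mod_cast h4
    obtain ⟨d, hd⟩ := Induced.Integral.scalar_of_norm_character_eq ρ (g := g)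
      (by rw [hρχ, hn1, hdim])
    have hinj : ∀ x : G, ρ x = 1 → x = 1 := fun x hx => by
      have hx' : x ∈ charKer χ := by
        rw [mem_charKer, ← hρχ, Representation.character, Representation.character, hx, map_one ρ]
      rw [hfaith] at hx'
      exact Subgroup.mem_bot.mp hx'
    apply hg
    rw [← Subgroup.mem_bot, ← hZ, Subgroup.mem_center_iff]
    intro x
    have h5 : ρ (x * g) = ρ (g * x) := by
      rw [map_mul, map_mul, hd, mul_smul_comm, smul_mul_assoc]
      rfl
    have h6 : ρ ((g * x)⁻¹ * (x * g)) = 1 := by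
      rw [map_mul, h5, ← map_mul, inv_mul_cancel, map_one]
    exact (inv_mul_eq_one.mp (hinj _ h6)).symm
  have hψS : ψ ∈ S := (hS ψ).mpr ⟨hψ, hall⟩
  have h1 : Cfsg.classInner F (oneChar G : G → ℂ) = 0 := by
    simp only [hF, classInner_sum_left, classInner_smul_left]
    refine Finset.sum_eq_zero fun a ha => ?_
    rw [classInner_irr_of_ne, mul_zero]
    rintro rfl
    have h7 := ((hS _).mp ha).1
    rw [dg, Cfsg.charDegree, oneChar_apply] at h7
    simp at h7
    omega
  simp only [Cfsg.classInner, oneChar_apply, map_one, mul_one] at h1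
  rw [Fintype.sum_eq_single (1 : G) fun g hg => hzero g hg] at h1
  rcases mul_eq_zero.mp h1 with h8 | h8
  · exact inv_ne_zero (Nat.cast_ne_zero.mpr Nat.card_pos.ne') h8
  · rw [hFapp] at h8
    have h9 : (∑ a ∈ S, dg a * dg a) = 0 := by
      have : ((∑ a ∈ S, dg a * dg a : ℕ) : ℂ) = 0 := by
        rw [← h8]
        push_cast
        exact Finset.sum_congr rfl fun a _ => by rw [apply_one a]
      exact_mod_cast this
    exact (Nat.mul_pos (degree_pos ψ) (degree_pos ψ)).ne'
      (Finset.sum_eq_zero_iff.mp h9 ψ hψS)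

end Cfsg.Agent.Lib.BC77.ThreeDegrees
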