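import Cfsg.Agent.Lib.BC77.ThreeDegrees.Product
import Cfsg.Agent.Lib.BC78.CoprimeFix
import Cfsg.Agent.Lib.PGroups.Omega

/-!
# Groups with at most three character degrees are solvable
-/

set_option autoImplicit false

namespace Cfsg.Agent.Lib.BC77.ThreeDegrees

open scoped ComplexConjugate
open Cfsg.Agent.Lib.Characters.Basic Cfsg.Agent.Lib.Induced.Basic
open Cfsg.Agent.Lib
open Cfsg.Agent.Lib.BlocksChars5.Basic (apply_one charKer mem_charKer charKer_normal degree_pos
  exists_deflate)

universe u

variable {G : Type u} [Group G]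

theorem isSolvable_of_derived {k : ℕ} (h : derivedSeries G k = ⊥) : Group.IsSolvable G :=
  (Group.isSolvable_def G).mpr ⟨k, h⟩

theorem isSolvable_of_extension (N : Subgroup G) [N.Normal] (h1 : Group.IsSolvable N)
    (h2 : Group.IsSolvable (G ⧸ N)) : Group.IsSolvable G :=
  (Group.isSolvable_iff_subgroup_quotient N).mpr ⟨h1, h2⟩

/-- The determinant of a character of a perfect group is trivial. -/
theorem detChar_eq_one [Finite G] (hG : commutator G = ⊤) (θ : Cfsg.IrrCharacter G) (x : G) :
    Cfsg.detChar (θ : G → ℂ) x = 1 := by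
  obtain ⟨μ, hμ⟩ := Clifford.Extension.exists_detHom θ.2
  have hx : x ∈ μ.ker := Abelianization.commutator_subset_ker μ (by rw [hG]; trivial)
  rw [← hμ]
  show ((μ x : ℂˣ) : ℂ) = 1
  rw [MonoidHom.mem_ker.mp hx, Units.val_one]

/-- A perfect normal subgroup of order divisible by `p` lies outside the kernel of some character
of degree prime to `p`. -/
theorem exists_not_dvd [Fintype G] {p : ℕ} [hp : Fact p.Prime] (N : Subgroup G) [N.Normal]
    (hN : ⁅N, N⁆ = N) (hpN : p ∣ Nat.card N) :
    ∃ χ : Cfsg.IrrCharacter G, ¬ N ≤ charKer χ ∧ ¬ p ∣ dg χ := by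
  classical
  obtain ⟨P⟩ : Nonempty (Sylow p G) := inferInstance
  let H : Subgroup G := N ⊔ (P : Subgroup G)
  have hNH : N ≤ H := le_sup_left
  have hPH : (P : Subgroup G) ≤ H := le_sup_right
  let M : Subgroup H := N.subgroupOf H
  let Q : Subgroup H := (P : Subgroup G).subgroupOf H
  have hQp : IsPGroup p Q := P.isPGroup'.of_equiv (Subgroup.subgroupOfEquivOfLe hPH).symm
  haveI : M.Normal := inferInstanceAs (N.subgroupOf H).Normal
  -- the index is a power of p
  have hMidx : ∃ j : ℕ, M.index = p ^ j := by
    obtain ⟨j, hj⟩ := IsPGroup.iff_card.mp (P.isPGroup'.to_quotient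
      (N.subgroupOf (P : Subgroup G)))
    refine ⟨j, ?_⟩
    rw [← hj, show M.index = N.relIndex H from rfl, ← Subgroup.index_eq_card]
    show N.relIndex (N ⊔ (P : Subgroup G)) = N.relIndex (P : Subgroup G)
    rw [sup_comm, Subgroup.relIndex_sup_right]
  -- an element of `M` centralising `Q`
  obtain ⟨c, hc, hcQ⟩ : ∃ c : M, c ≠ 1 ∧ (c : H) ∈ Subgroup.centralizer (Q : Set H) := by
    obtain ⟨S, hS⟩ := (inferInstance : Nonempty (Sylow p N))
    obtain ⟨T, hT⟩ : ∃ T : Subgroup G, T = N ⊓ (P : Subgroup G) := ⟨_, rfl⟩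
    have hTne : T ≠ ⊥ := by
      intro h0
      have h1 : N.relIndex (P : Subgroup G) = Nat.card (P : Subgroup G) := by
        rw [← Subgroup.inf_relIndex_right, ← hT, h0, Subgroup.relIndex_bot_left]
      have h2 : N.relIndex (P : Subgroup G) ∣ N.index := Subgroup.relIndex_dvd_index_of_normal N _
      rw [h1] at h2
      have h3 : p * Nat.card (P : Subgroup G) ∣ Nat.card G := by
        rw [← Subgroup.card_mul_index N]
        exact mul_dvd_mul hpN h2
      rw [P.card_eq_multiplicity, ← pow_succ'] at h3
      exact Nat.pow_succ_factorization_not_dvd Nat.card_pos.ne' hp.out h3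
    let T' : Subgroup (P : Subgroup G) := T.subgroupOf (P : Subgroup G)
    haveI : T'.Normal := by
      rw [show T' = N.subgroupOf (P : Subgroup G) by
        simp only [T', hT, Subgroup.inf_subgroupOf_right]]
      infer_instance
    haveI : Nontrivial T' := by
      rw [Subgroup.nontrivial_iff_ne_bot]
      intro h0
      apply hTne
      have h1 := Subgroup.subgroupOf_eq_bot.mp h0
      rw [disjoint_iff] at h1
      rw [← h1, eq_comm, inf_eq_left, hT]
      exact inf_le_right
    obtain ⟨z, hz, hz1⟩ : ∃ z, z ∈ T' ⊓ Subgroup.center (P : Subgroup G) ∧ z ≠ 1 := by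
      by_contra hcon
      push Not at hcon
      exact PGroups.normal_inf_center_ne_bot P.isPGroup' T'
        ((Subgroup.nontrivial_iff_ne_bot T').mp inferInstance) (eq_bot_iff.mpr hcon)
    have hzN : (z : G) ∈ N := (hT ▸ (Subgroup.mem_subgroupOf.mp hz.1) : (z : G) ∈ N ⊓ _).1
    refine ⟨⟨⟨(z : G), hNH hzN⟩, Subgroup.mem_subgroupOf.mpr hzN⟩, fun h0 => hz1 ?_, ?_⟩
    · exact Subtype.ext (congrArg (fun a : M => ((a : H) : G)) h0)
    · rw [Subgroup.mem_centralizer_iff]
      intro q hq
      have := Subgroup.mem_center_iff.mp hz.2 ⟨(q : G), Subgroup.mem_subgroupOf.mp hq⟩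
      exact Subtype.ext (congrArg (fun a : (P : Subgroup G) => (a : G)) this)
  haveI := Fintype.ofFinite H
  haveI := Fintype.ofFinite M
  obtain ⟨θ, hfix, hθp, hθ1⟩ := BC78.CoprimeFix.exists_fixed_ne_one M Q hQp hc hcQ
  -- θ is invariant
  have hinv : ∀ (h : H) (x : M), (θ : M → ℂ) ⟨h * x * h⁻¹,
      (inferInstance : M.Normal).conj_mem (x : H) x.2 h⟩ = (θ : M → ℂ) x := by
    have hall : ∀ h : H, Clifford.Basic.conjC M h (θ : M → ℂ) = (θ : M → ℂ) := by
      have htop : Clifford.Basic.inertia M (θ : M → ℂ) = ⊤ := by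
        rw [eq_top_iff, ← Subgroup.subgroupOf_self H]
        show (N ⊔ (P : Subgroup G)).subgroupOf H ≤ _
        rw [Subgroup.subgroupOf_sup hNH hPH]
        refine sup_le (Clifford.Basic.le_inertia M (isClassFunction_irr θ)) fun q hq => ?_
        rw [Clifford.Basic.mem_inertia]
        funext x
        exact congrFun (congrArg Subtype.val (hfix q hq)) x
      exact fun h => (Clifford.Basic.mem_inertia M).mp (htop ▸ Subgroup.mem_top h)
    exact fun h x => congrFun (hall h) x
  have hperf : commutator M = ⊤ := by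
    have hinj : Function.Injective (H.subtype.comp M.subtype) :=
      fun a b hab => Subgroup.subtype_injective M (Subgroup.subtype_injective H hab)
    apply Subgroup.map_injective hinj
    have e : (⊤ : Subgroup M).map (H.subtype.comp M.subtype) = N := by
      rw [← Subgroup.map_map, ← MonoidHom.range_eq_map, Subgroup.range_subtype,
        Subgroup.map_subgroupOf_eq_of_le hNH]
    rw [commutator_def, Subgroup.map_commutator, e, hN]
  obtain ⟨j, hj⟩ := hMidx
  have hcop : Nat.Coprime M.index (BC78.CoprimeFix.deg θ) := by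
    rw [hj]
    exact Nat.Coprime.pow_left j (hp.out.coprime_iff_not_dvd.2 hθp)
  obtain ⟨η, hη, hηθ, -⟩ := Clifford.Extension.exists_extension_char M θ.2 hinv
    (BC78.CoprimeFix.apply_one_eq_deg θ) hcop 1 (fun x => by
      rw [MonoidHom.one_apply, Units.val_one]
      exact (detChar_eq_one hperf θ x).symm)
  -- induce
  have hind : Cfsg.IsCharacter G (Cfsg.indFun H η) :=
    Induced.Character.isCharacter_indFun H (IsCharacter_of_isIrrCharacter hη)
  have hdeg : Cfsg.indFun H η 1 = ((H.index * BC78.CoprimeFix.deg θ : ℕ) : ℂ) := by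
    rw [indFun_one, Nat.cast_mul, ← BC78.CoprimeFix.apply_one_eq_deg θ, ← hηθ 1,
      Subgroup.coe_one]
  have hpH : ¬ p ∣ H.index := fun hd =>
    P.not_dvd_index (hd.trans (Subgroup.index_dvd_of_le hPH))
  obtain ⟨χ, hχ, hχp⟩ := BC78.CoprimeFix.exists_constituent_not_dvd hind hdeg
    (fun hd => (hp.out.dvd_mul.mp hd).elim hpH hθp)
  refine ⟨χ, fun hker => hθ1 ?_, hχp⟩
  rw [frobenius_reciprocity H _ (isClassFunction_irr χ)] at hχ
  have hχ' := Clifford.Basic.classInner_ne_zero_symm hχ
  have hconst : ∀ x : M, (θ : M → ℂ) x = (θ : M → ℂ) 1 := by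
    intro x
    have h1 : (χ : G → ℂ) ((x : H) : G) = (χ : G → ℂ) ((1 : H) : G) := by
      rw [Subgroup.coe_one]
      exact hker (Subgroup.mem_subgroupOf.mp x.2)
    have h2 := BC78.CoprimeFix.constituent_ker (G := H)
      (isCharacter_comp H.subtype (isCharacter_irr χ)) ⟨η, hη⟩ hχ' (g := (x : H)) h1
    calc (θ : M → ℂ) x = η (x : H) := (hηθ x).symm
      _ = η 1 := h2
      _ = _ := by rw [← hηθ 1, Subgroup.coe_one]
  by_contra hne
  have h3 : Cfsg.classInner (θ : M → ℂ) (oneChar M : M → ℂ) = 0 := classInner_irr_of_ne hne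
  rw [show (θ : M → ℂ) = (θ : M → ℂ) 1 • (oneChar M : M → ℂ) from funext fun x => by
    rw [Pi.smul_apply, oneChar_apply, smul_eq_mul, mul_one, hconst x],
    classInner_smul_left, classInner_self_irr, mul_one] at h3
  exact apply_one_ne_zero θ h3

/-- If every nontrivial normal subgroup contains the perfect normal subgroup `N ≠ 1`, there are at
least four character degrees. -/
theorem perfect_false [Fintype G] {m n : ℕ} (h : Deg2 G m n) (hm : 1 < m) (hmn : m < n)
    (N : Subgroup G) [N.Normal] (hN : N ≠ ⊥) (hperf : ⁅N, N⁆ = N)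
    (hmin : ∀ X : Subgroup G, X.Normal → X ≠ ⊥ → N ≤ X) (hcop : m.Coprime n) : False := by
  classical
  haveI := Fintype.ofFinite N
  have hle : N ≤ commutator G := by
    rw [← hperf, commutator_def]
    exact Subgroup.commutator_mono le_top le_top
  have hnl : ∀ χ : Cfsg.IrrCharacter G, ¬ N ≤ charKer χ → dg χ = m ∨ dg χ = n := fun χ hχ =>
    (h χ).resolve_left fun h1 => hχ (hle.trans (commutator_le_charKer h1))
  have hZ : Subgroup.center G = ⊥ := by
    by_contra hZ
    apply hN
    have h1 := hmin _ inferInstance hZ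
    rw [← hperf, Subgroup.commutator_eq_bot_iff_le_centralizer]
    exact h1.trans (Subgroup.center_le_centralizer _)
  -- one degree only
  have hB : ∀ d, ¬ (∀ χ : Cfsg.IrrCharacter G, ¬ N ≤ charKer χ → dg χ = d) := by
    intro d hd
    obtain ⟨θ, hθ⟩ : ∃ θ : Cfsg.IrrCharacter N, dg θ ≠ 1 := by
      by_contra hcon
      push Not at hcon
      apply hN
      rw [← hperf, Subgroup.commutator_eq_bot_iff_le_centralizer]
      intro x hx
      rw [Subgroup.mem_centralizer_iff]
      exact fun y hy => congrArg Subtype.val (comm_of_all_linear hcon ⟨y, hy⟩ ⟨x, hx⟩)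
    obtain ⟨p, hp, hpθ⟩ := Nat.exists_prime_and_dvd hθ
    haveI := Fact.mk hp
    obtain ⟨χ, e, hχ, he, -⟩ := exists_over N θ
    have hker : ¬ N ≤ charKer χ := ne_charKer_of_constituent N hχ fun h1 => hθ (by
      subst h1
      show ⌊((oneChar N : N → ℂ) 1).re⌋₊ = 1
      rw [oneChar_apply, Complex.one_re, Nat.floor_one])
    have hpd : p ∣ d := by
      rw [← hd χ hker, he]
      exact hpθ.mul_left e
    obtain ⟨χ', hker', hp'⟩ := exists_not_dvd (p := p) N hperf
      (hpθ.trans (BlocksChars5.Basic.degree_dvd_card θ))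
    exact hp' (hd χ' hker' ▸ hpd)
  have hfaith : ∀ χ : Cfsg.IrrCharacter G, ¬ N ≤ charKer χ → charKer χ = ⊥ := fun χ hχ => by
    by_contra h1
    exact hχ (hmin _ (charKer_normal χ) h1)
  have hex : ∀ {a b : ℕ}, (∀ χ : Cfsg.IrrCharacter G, ¬ N ≤ charKer χ → dg χ = a ∨ dg χ = b) →
      ∃ χ : Cfsg.IrrCharacter G, ¬ N ≤ charKer χ ∧ dg χ = b := by
    intro a b hab
    by_contra hcon
    push Not at hcon
    exact hB a fun χ hχ => (hab χ hχ).resolve_right (hcon χ hχ)
  obtain ⟨χ, hχN, hχ⟩ := hex (a := n) (b := m) fun χ hχ => (hnl χ hχ).symm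
  obtain ⟨ψ, hψN, hψ⟩ := hex hnl
  rcases mixed h hm hmn hcop hχ hψ with hall | hall
  · apply hχN
    have hinner : Cfsg.classInner (fun a : N => (χ : G → ℂ) a) (oneChar N : N → ℂ) ≠ 0 := by
      simp only [Cfsg.classInner, oneChar_apply, map_one, mul_one]
      rw [Fintype.sum_eq_single (1 : N) fun x hx => vanish h hm hmn hcop hχ hψ hall (hle x.2)
        (by rw [hfaith ψ hψN, Subgroup.mem_bot]; exact fun h0 => hx (Subtype.ext h0))]
      exact mul_ne_zero (inv_ne_zero (Nat.cast_ne_zero.mpr Nat.card_pos.ne'))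
        (apply_one_ne_zero χ)
    have hres := Clifford.Basic.restrict_eq_smul N χ.2 (oneChar N) hinner
      (fun g => funext fun x => by simp [Clifford.Basic.conjC_apply, oneChar_apply])
    intro x hx
    rw [mem_charKer]
    have h1 := congrFun hres ⟨x, hx⟩
    have h2 := congrFun hres 1
    simp only [Pi.smul_apply, oneChar_apply, Subgroup.coe_one] at h1 h2
    rw [h1, h2]
  · exact closed_false h hm hmn hcop hZ hχ (hfaith χ hχN) hψ hall

theorem solvable_aux (c : ℕ) : ∀ (G : Type u) [Group G] [Finite G], Nat.card G ≤ c →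
    ∀ m n : ℕ, Deg2 G m n → Group.IsSolvable G := by
  induction c with
  | zero => intro G _ _ hc; exact absurd hc (by simp [Nat.card_pos.ne'])
  | succ c ih =>
    intro G _ _ hc m n h
    classical
    haveI := Fintype.ofFinite G
    have hlow : ∀ {a b : ℕ}, a ≤ 1 → Deg2 G a b → Group.IsSolvable G := fun {a b} ha hab =>
      isSolvable_of_derived (k := 2) (metabelian (a := b) fun χ => by
        rcases hab χ with h' | h' | h'
        · exact Or.inl h'
        · exact Or.inl (le_antisymm (h' ▸ ha) (degree_pos χ))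
        · exact Or.inr h')
    by_contra hns
    wlog hle : m ≤ n generalizing m n
    · exact this n m h.symm (le_of_not_ge hle)
    rcases hle.eq_or_lt with rfl | hmn
    · exact hns (isSolvable_of_derived (k := 2) (metabelian (a := m) fun χ => by
        rcases h χ with h' | h' | h' <;> simp [h']))
    have hm : 1 < m := by
      by_contra hm
      exact hns (hlow (Nat.le_of_not_lt hm) h)
    have hquot : ∀ X : Subgroup G, ∀ _ : X.Normal, X ≠ ⊥ → Group.IsSolvable (G ⧸ X) := by
      intro X _ hX
      refine ih (G ⧸ X) ?_ m n (h.quot X)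
      have h1 := Subgroup.card_eq_card_quotient_mul_card_subgroup X
      have h2 : 2 ≤ Nat.card X := Finite.one_lt_card_iff_nontrivial.mpr
        ((Subgroup.nontrivial_iff_ne_bot X).mpr hX)
      have h3 : 0 < Nat.card (G ⧸ X) := Nat.card_pos
      nlinarith
    by_cases hcop : m.Coprime n
    · -- the solvable residual
      obtain ⟨N, hN⟩ : ∃ N : Subgroup G, N = ⨅ X : {X : Subgroup G // X.Normal ∧ X ≠ ⊥},
          (X : Subgroup G) := ⟨_, rfl⟩
      haveI : N.Normal := hN ▸ Subgroup.normal_iInf_normal fun X => X.2.1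
      have hmin : ∀ X : Subgroup G, X.Normal → X ≠ ⊥ → N ≤ X := fun X h1 h2 =>
        hN ▸ iInf_le (fun X : {X : Subgroup G // X.Normal ∧ X ≠ ⊥} => (X : Subgroup G))
          ⟨X, h1, h2⟩
      -- two normal subgroups meet
      have hNne : N ≠ ⊥ := by
        have hmeet : ∀ X Y : Subgroup G, ∀ _ : X.Normal, ∀ _ : Y.Normal, X ≠ ⊥ → Y ≠ ⊥ →
            X ⊓ Y ≠ ⊥ := by
          intro X Y _ _ hX hY h0
          apply hns
          haveI := hquot X inferInstance hX
          haveI := hquot Y inferInstance hY
          refine Group.isSolvable_of_isSolvable_injective (f :=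
            (QuotientGroup.mk' X).prod (QuotientGroup.mk' Y)) ?_
          rw [← MonoidHom.ker_eq_bot_iff, MonoidHom.ker_prod, QuotientGroup.ker_mk',
            QuotientGroup.ker_mk', h0]
        haveI : Nontrivial G := by
          by_contra hnt
          haveI := not_nontrivial_iff_subsingleton.mp hnt
          exact hns inferInstance
        intro h0
        have key : ∀ s : Finset {X : Subgroup G // X.Normal ∧ X ≠ ⊥},
            (s.inf fun X => (X : Subgroup G)).Normal ∧ (s.inf fun X => (X : Subgroup G)) ≠ ⊥ := by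
          intro s
          induction s using Finset.induction with
          | empty =>
            rw [Finset.inf_empty]
            exact ⟨inferInstance, top_ne_bot⟩
          | insert a s ha ihs =>
            rw [Finset.inf_insert]
            haveI := a.2.1
            haveI := ihs.1
            exact ⟨inferInstance, hmeet _ _ inferInstance inferInstance a.2.2 ihs.2⟩
        haveI := Fintype.ofFinite {X : Subgroup G // X.Normal ∧ X ≠ ⊥}
        apply (key Finset.univ).2
        rw [Finset.inf_univ_eq_iInf, ← hN, h0]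
      have hperf : ⁅N, N⁆ = N := by
        refine le_antisymm (Subgroup.commutator_le_self N) (hmin _ inferInstance fun h0 => hns ?_)
        refine isSolvable_of_extension N ?_ (hquot N inferInstance hNne)
        apply isSolvable_of_derived (k := 1)
        rw [derivedSeries_one, commutator_eq_bot_iff_center_eq_top, eq_top_iff]
        intro x _
        rw [Subgroup.mem_center_iff]
        intro y
        have := Subgroup.commutator_eq_bot_iff_le_centralizer.mp h0 x.2
        exact Subtype.ext (Subgroup.mem_centralizer_iff.mp this y y.2)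
      exact perfect_false h hm hmn N hNne hperf hmin hcop
    · obtain ⟨p, hp, hpm, hpn⟩ := Nat.Prime.not_coprime_iff_dvd.mp hcop
      haveI := Fact.mk hp
      obtain ⟨K, hK, hpK, k, hk⟩ := complement hp (fun χ hχ => by
        rcases (h χ).resolve_left hχ with h' | h' <;> rw [h'] <;> assumption)
      apply hns
      haveI : Group.IsSolvable (G ⧸ K) := by
        haveI := (IsPGroup.of_card (p := p) (n := k) (G := G ⧸ K)
          (by rw [← Subgroup.index_eq_card, hk])).isNilpotent
        infer_instance
      refine isSolvable_of_extension K (ih K ?_ _ _ (h.complement hp K hpK hk)) inferInstance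
      obtain ⟨χ, hχ⟩ : ∃ χ : Cfsg.IrrCharacter G, dg χ ≠ 1 := by
        by_contra hcon
        push Not at hcon
        exact hns (isSolvable_of_derived (k := 2) (metabelian (a := m) fun χ => Or.inl (hcon χ)))
      have h1 : p ∣ Nat.card G := (show p ∣ dg χ by
        rcases (h χ).resolve_left hχ with h' | h' <;> rw [h'] <;> assumption).trans
        (BlocksChars5.Basic.degree_dvd_card χ)
      have h2 := Subgroup.card_mul_index K
      have h3 : K.index ≠ 1 := fun h0 => hpK (by rw [← h2, h0, mul_one] at h1; exact h1)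
      have h4 : K.index ≠ 0 := Subgroup.index_ne_zero_of_finite
      have h5 : 0 < Nat.card K := Nat.card_pos
      have h6 : Nat.card K * 2 ≤ Nat.card K * K.index := Nat.mul_le_mul_left _ (by omega)
      omega

/-- A finite group with at most three character degrees is solvable. -/
theorem Deg2.isSolvable [Finite G] {m n : ℕ} (h : Deg2 G m n) : Group.IsSolvable G :=
  solvable_aux (Nat.card G) G le_rfl m n h

end Cfsg.Agent.Lib.BC77.ThreeDegrees
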